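import Cfsg.Agent.Blocks.PrimeInertial.Reduce
import Cfsg.Agent.S4569

/-!
# Prime inertial index, and an involution with a 2-nilpotent centraliser
-/

set_option autoImplicit false
set_option linter.unusedSectionVars false
set_option linter.style.haveILetI false

namespace Cfsg.Lib.Blocks.PrimeInertial

open Cfsg.Lib.Chars Cfsg.Lib.Blocks
open scoped _root_.Classical

universe u

variable {G : Type u} [Group G] [Fintype G] [Fact (Nat.Prime 2)] {M : Ideal AlgInt}

lemma comm_fifteen {Q : Type*} [Group Q] [Finite Q] (h : Nat.card Q = 15) : ∀ a b : Q, a * b = b * a := by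
  haveI : IsZGroup Q := IsZGroup.of_squarefree (by rw [h]; decide +kernel)
  haveI : Group.IsNilpotent Q := by
    refine (Group.isNilpotent_of_finite_tfae.out 0 3 rfl rfl).2 fun p hp R => ?_
    haveI := hp
    have h1 : Nat.card (Sylow p Q) ∣ 15 := h ▸ (R.card_dvd_index.trans (Subgroup.index_dvd_card _))
    have h2 : Nat.card (Sylow p Q) ≡ 1 [MOD p] := card_sylow_modEq_one p Q
    have h3 : Nat.card (Sylow p Q) ∈ Nat.divisors 15 := Nat.mem_divisors.2 ⟨h1, by norm_num⟩
    rw [show Nat.divisors 15 = {1, 3, 5, 15} by decide +kernel] at h3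
    by_cases hpd : p ∣ 15
    · have hp35 : p = 3 ∨ p = 5 := by
        have hple := Nat.le_of_dvd (by norm_num) hpd
        have hpp := hp.out
        interval_cases p <;> revert hpd hpp <;> decide
      have h1' : Nat.card (Sylow p Q) = 1 := by
        simp only [Finset.mem_insert, Finset.mem_singleton] at h3
        rcases hp35 with rfl | rfl <;> rcases h3 with e | e | e | e <;> rw [e] at h2 ⊢ <;>
          revert h2 <;> decide
      haveI : Subsingleton (Sylow p Q) := (Nat.card_eq_one_iff_unique.1 h1').1
      exact Sylow.normal_of_subsingleton R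
    · have hbot : (R : Subgroup Q) = ⊥ := by
        rw [← Subgroup.card_eq_one, R.card_eq_multiplicity, h,
          Nat.factorization_eq_zero_of_not_dvd hpd, pow_zero]
      rw [hbot]
      infer_instance
  obtain ⟨g, hg⟩ := IsCyclic.exists_generator (α := Q)
  exact fun a b => (IsCyclic.commGroup (α := Q)).mul_comm a b

lemma normalizer_le_normalizer_centralizer' (H : Subgroup G) :
    Subgroup.normalizer (H : Set G) ≤ Subgroup.normalizer (Subgroup.centralizer (H : Set G) : Set G) := by
  have key : ∀ n ∈ Subgroup.normalizer (H : Set G), ∀ c ∈ Subgroup.centralizer (H : Set G),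
      n * c * n⁻¹ ∈ Subgroup.centralizer (H : Set G) := fun n hn c hc =>
    Subgroup.mem_centralizer_iff.2 fun y hy => by
      have hy' : n⁻¹ * y * n⁻¹⁻¹ ∈ H := (Subgroup.mem_normalizer_iff.1 (inv_mem hn) y).1 hy
      calc y * (n * c * n⁻¹) = n * ((n⁻¹ * y * n⁻¹⁻¹) * c) * n⁻¹ := by group
        _ = n * (c * (n⁻¹ * y * n⁻¹⁻¹)) * n⁻¹ := by rw [Subgroup.mem_centralizer_iff.1 hc _ hy']
        _ = _ := by group
  refine fun n hn => Subgroup.mem_normalizer_iff.2 fun c => ⟨key n hn c, fun hc => ?_⟩
  simpa [mul_assoc] using key n⁻¹ (inv_mem hn) _ hc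

/-- Commutators of the normalizer, when the automizer is abelian. -/
lemma comm_of_quotient (P : Sylow 2 G)
    (h : ∀ Q : Type u, ∀ [Group Q] [Finite Q], Nat.card Q = frobIndex P → ∀ a b : Q, a * b = b * a) :
    ∀ a ∈ Subgroup.normalizer ((P : Subgroup G) : Set G),
      ∀ b ∈ Subgroup.normalizer ((P : Subgroup G) : Set G),
      a * b * a⁻¹ * b⁻¹ ∈ Subgroup.centralizer ((P : Subgroup G) : Set G) := by
  intro a ha b hb
  set N := Subgroup.normalizer ((P : Subgroup G) : Set G)
  set C := (Subgroup.centralizer ((P : Subgroup G) : Set G)).subgroupOf N with hC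
  haveI hCn : C.Normal := Subgroup.normal_subgroupOf_of_le_normalizer
    (normalizer_le_normalizer_centralizer' _)
  have hc := h (N ⧸ C) rfl (⟨a, ha⟩ : N) (⟨b, hb⟩ : N)
  have hm : (⟨a, ha⟩ : N) * ⟨b, hb⟩ * (⟨a, ha⟩ : N)⁻¹ * (⟨b, hb⟩ : N)⁻¹ ∈ C := by
    rw [← QuotientGroup.eq_one_iff]
    simp only [QuotientGroup.mk_mul, QuotientGroup.mk_inv]
    rw [hc, mul_inv_cancel_right, mul_inv_cancel]
  exact Subgroup.mem_subgroupOf.1 hm

/-- Prime index: the automizer is semiregular outside its fixed points. -/
lemma free_of_prime (P : Sylow 2 G)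
    (hab : ∀ a ∈ (P : Subgroup G), ∀ b ∈ (P : Subgroup G), a * b = b * a) (he : (frobIndex P).Prime) :
    ∀ y ∈ (P : Subgroup G), y ∉ fixedPart P →
      ∀ t ∈ Subgroup.normalizer ((P : Subgroup G) : Set G), t * y = y * t →
        t ∈ Subgroup.centralizer ((P : Subgroup G) : Set G) := by
  intro y hy hyZ t ht hc
  set N := Subgroup.normalizer ((P : Subgroup G) : Set G) with hN
  set T := N ⊓ Subgroup.centralizer ({y} : Set G) with hT
  have hCT : Subgroup.centralizer ((P : Subgroup G) : Set G) ≤ T := fun c hc' =>
    ⟨Subgroup.centralizer_le_normalizer _ hc', Subgroup.mem_centralizer_singleton_iff.2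
      (Subgroup.mem_centralizer_iff.1 hc' y hy).symm⟩
  have htT : t ∈ T := ⟨ht, Subgroup.mem_centralizer_singleton_iff.2 hc⟩
  have hmul := Subgroup.relIndex_mul_relIndex _ _ _ hCT (inf_le_left : T ≤ N)
  rcases (Nat.dvd_prime he).1 (⟨_, hmul.symm⟩ : (Subgroup.centralizer ((P : Subgroup G) : Set G)).relIndex T ∣
      frobIndex P) with h1 | h1
  · exact Subgroup.relIndex_eq_one.1 h1 htT
  · exfalso
    have h2 : T.relIndex N = 1 := by
      rw [h1] at hmul
      exact (Nat.mul_eq_left he.ne_zero).1 hmul
    refine hyZ ⟨hy, Subgroup.mem_centralizer_iff.2 fun n hn => ?_⟩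
    exact Subgroup.mem_centralizer_singleton_iff.1 (Subgroup.relIndex_eq_one.1 h2 hn).2

/-- The fixed part is proper. -/
lemma card_fixedPart_lt (P : Sylow 2 G) (he : 1 < frobIndex P) :
    Nat.card (fixedPart P) ∣ Nat.card (P : Subgroup G) ∧ Nat.card (fixedPart P) < Nat.card (P : Subgroup G) := by
  refine ⟨Subgroup.card_dvd_of_le inf_le_left, lt_of_le_of_ne (Subgroup.card_le_of_le inf_le_left) fun e => ?_⟩
  have hle := inf_eq_left.1 (Subgroup.eq_of_le_of_card_ge (inf_le_left : fixedPart P ≤ P) e.ge)
  have : frobIndex P = 1 := Subgroup.relIndex_eq_one.2 fun n hn =>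
    Subgroup.mem_centralizer_iff.2 fun z hz => (Subgroup.mem_centralizer_iff.1 (hle hz) n hn).symm
  omega

/-- The invariants for a prime inertial index. -/
theorem prime_invariants (hM : IsPModular 2 M) (P : Sylow 2 G)
    (hab : ∀ a ∈ (P : Subgroup G), ∀ b ∈ (P : Subgroup G), a * b = b * a) (he : (frobIndex P).Prime) :
    blockRank 2 (principalBlock M G) = frobIndex P ∧
      frobIndex P * Nat.card (principalBlock M G) + Nat.card (fixedPart P) =
        frobIndex P * Nat.card (fixedPart P) * frobIndex P + Nat.card (P : Subgroup G) ∧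
      (¬ Group.IsSolvable G → Nat.card (principalBlock M G) = Nat.card (P : Subgroup G)) := by
  obtain ⟨h1, h2, h3⟩ := main_invariants hM P hab (free_of_prime P hab he)
    (comm_of_quotient P fun Q _ _ hQ => by
      haveI : Fact (frobIndex P).Prime := ⟨he⟩
      haveI : IsCyclic Q := isCyclic_of_prime_card hQ
      exact fun a b => (IsCyclic.commGroup (α := Q)).mul_comm a b) he.one_lt
  refine ⟨h1, h2, fun hns => ?_⟩
  have hP := h3.resolve_left hns
  rw [hP] at h2 ⊢
  refine Nat.eq_of_mul_eq_mul_left (frobIndex_pos P) (Nat.add_right_cancel (h2.trans ?_))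
  ring

section Involution

variable {P : Sylow 2 G} {x : G}

/-- The stabiliser of an involution with a 2-nilpotent centraliser, inside the normalizer. -/
lemma stab_le (hab : ∀ a ∈ (P : Subgroup G), ∀ b ∈ (P : Subgroup G), a * b = b * a)
    (hx : x ∈ (P : Subgroup G)) (hN : HasNormalPComplement 2 (Subgroup.centralizer ({x} : Set G))) :
    ∀ t ∈ Subgroup.normalizer ((P : Subgroup G) : Set G), t * x = x * t →
      t ∈ Subgroup.centralizer ((P : Subgroup G) : Set G) := by
  intro t ht hc
  have hle : (P : Subgroup G) ≤ Subgroup.centralizer ({x} : Set G) := fun z hz =>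
    Subgroup.mem_centralizer_singleton_iff.2 (hab z hz x hx)
  have h := SixteenNine.centralize_of_complement (S := P.subtype hle)
    (fun a ha b hb => Subtype.ext (hab _ ha _ hb)) hN
    (x := ⟨t, Subgroup.mem_centralizer_singleton_iff.2 hc⟩) ((SixteenNine.mem_normalizer_subtype P hle _).2 ht)
  exact Subgroup.mem_centralizer_iff.2 fun z hz =>
    congrArg Subtype.val (Subgroup.mem_centralizer_iff.1 h ⟨z, hle hz⟩ hz)

/-- The inertial index is at most the number of involutions. -/
lemma frobIndex_le (hab : ∀ a ∈ (P : Subgroup G), ∀ b ∈ (P : Subgroup G), a * b = b * a)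
    (hx : x ∈ (P : Subgroup G)) (hx2 : orderOf x = 2)
    (hs : ∀ t ∈ Subgroup.normalizer ((P : Subgroup G) : Set G), t * x = x * t →
      t ∈ Subgroup.centralizer ((P : Subgroup G) : Set G)) :
    frobIndex P < (omegaSet P).card := by
  have hx1 : x ≠ 1 := fun e => by simp [e] at hx2
  set N := Subgroup.normalizer ((P : Subgroup G) : Set G)
  let C := (Subgroup.centralizer ((P : Subgroup G) : Set G)).subgroupOf N
  let F : N ⧸ C → {a : (P : Subgroup G) // a ∈ (omegaSet P).erase 1} := fun q =>
    ⟨conjSyl P q.out ⟨x, hx⟩, Finset.mem_erase.2 ⟨fun e => hx1 (conj_eq_one_iff.1 (congrArg Subtype.val e)),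
      mem_omegaSet.2 (Subtype.ext (sq_of_isConj (isConj_conjSyl q.out ⟨x, hx⟩)
        (show x * x = 1 by rw [← pow_two, ← hx2, pow_orderOf_eq_one])))⟩⟩
  have hF : Function.Injective F := by
    intro a b hab'
    have e : (a.out : G) * x * (a.out : G)⁻¹ = (b.out : G) * x * (b.out : G)⁻¹ :=
      congrArg (fun v => ((v.1 : (P : Subgroup G)) : G)) hab'
    have hc : ((a.out⁻¹ * b.out : N) : G) * x = x * ((a.out⁻¹ * b.out : N) : G) := by
      rw [Subgroup.coe_mul, Subgroup.coe_inv]
      calc (a.out : G)⁻¹ * b.out * x = (a.out : G)⁻¹ * ((b.out : G) * x * (b.out : G)⁻¹) * b.out := by group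
        _ = (a.out : G)⁻¹ * ((a.out : G) * x * (a.out : G)⁻¹) * b.out := by rw [e]
        _ = _ := by group
    rw [← QuotientGroup.out_eq' a, ← QuotientGroup.out_eq' b]
    exact QuotientGroup.eq.2 (Subgroup.mem_subgroupOf.2 (hs _ (a.out⁻¹ * b.out).2 hc))
  have h := Nat.card_le_card_of_injective F hF
  rw [Nat.card_eq_fintype_card (α := {a : (P : Subgroup G) // a ∈ (omegaSet P).erase 1}), Fintype.card_coe,
    Finset.card_erase_of_mem (by simp [mem_omegaSet])] at h
  have h' : frobIndex P ≤ (omegaSet P).card - 1 := h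
  have := frobIndex_pos P
  omega

/-- An involution with a 2-nilpotent centraliser. -/
theorem involution_count (hM : IsPModular 2 M) (hab : ∀ a ∈ (P : Subgroup G), ∀ b ∈ (P : Subgroup G), a * b = b * a)
    (hx : x ∈ (P : Subgroup G)) (hx2 : orderOf x = 2)
    (hN : HasNormalPComplement 2 (Subgroup.centralizer ({x} : Set G))) :
    (Nat.card (P : Subgroup G) = 8 → Nat.card (principalBlock M G) = 8) ∧
      (Nat.card (P : Subgroup G) = 16 →
        Nat.card (principalBlock M G) = 8 ∨ Nat.card (principalBlock M G) = 16) := by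
  have hs := stab_le hab hx hN
  have hlt := frobIndex_le hab hx hx2 hs
  have hΩ : (omegaSet P).card ≤ Nat.card (P : Subgroup G) := by
    rw [Nat.card_eq_fintype_card]; exact Finset.card_le_univ _
  have hodd : Odd (frobIndex P) := odd_frobIndex hab
  obtain ⟨j, hj⟩ := hodd
  by_cases he1 : frobIndex P = 1
  · obtain ⟨-, hk⟩ := index_one hM P hab he1
    exact ⟨fun h => hk.trans h, fun h => Or.inr (hk.trans h)⟩
  have he1' : 1 < frobIndex P := by omega
  obtain ⟨hzd, hzlt⟩ := card_fixedPart_lt P he1'
  constructor
  · intro h8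
    rw [h8] at hΩ hzd hzlt
    have hp : (frobIndex P).Prime := by
      have : frobIndex P = 3 ∨ frobIndex P = 5 ∨ frobIndex P = 7 := by omega
      rcases this with h | h | h <;> rw [h] <;> norm_num
    obtain ⟨-, hk, -⟩ := prime_invariants hM P hab hp
    rw [h8] at hk
    have hz : Nat.card (fixedPart P) = 1 ∨ Nat.card (fixedPart P) = 2 ∨ Nat.card (fixedPart P) = 4 := by
      obtain ⟨i, hi, hzi⟩ := (Nat.dvd_prime_pow Nat.prime_two (m := 3)).1 (by simpa using hzd)
      interval_cases i <;> simp_all
    have : frobIndex P = 3 ∨ frobIndex P = 5 ∨ frobIndex P = 7 := by omega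
    rcases this with h | h | h <;> rcases hz with z | z | z <;> rw [h, z] at hk <;> omega
  · intro h16
    rw [h16] at hΩ hzd hzlt
    have hz : Nat.card (fixedPart P) = 1 ∨ Nat.card (fixedPart P) = 2 ∨ Nat.card (fixedPart P) = 4 ∨
        Nat.card (fixedPart P) = 8 := by
      obtain ⟨i, hi, hzi⟩ := (Nat.dvd_prime_pow Nat.prime_two (m := 4)).1 (by simpa using hzd)
      interval_cases i <;> simp_all
    have hcases : frobIndex P = 3 ∨ frobIndex P = 5 ∨ frobIndex P = 7 ∨ frobIndex P = 9 ∨ frobIndex P = 11 ∨
        frobIndex P = 13 ∨ frobIndex P = 15 := by omega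
    by_cases h9 : frobIndex P = 9
    · right
      have hfull : omegaSet P = Finset.univ := by
        refine Finset.eq_univ_of_card _ ?_
        letI : CommGroup (P : Subgroup G) := { mul_comm := fun a b => Subtype.ext (hab a a.2 b b.2) }
        have hker : Nat.card (powMonoidHom 2 : (P : Subgroup G) →* (P : Subgroup G)).ker = (omegaSet P).card := by
          rw [Nat.card_eq_fintype_card]
          exact Fintype.card_of_subtype _ fun a => by
            rw [mem_omegaSet, MonoidHom.mem_ker, powMonoidHom_apply, pow_two]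
        have hd := Subgroup.card_subgroup_dvd_card (powMonoidHom 2 : (P : Subgroup G) →* (P : Subgroup G)).ker
        rw [hker, h16] at hd
        obtain ⟨i, hi, hzi⟩ := (Nat.dvd_prime_pow Nat.prime_two (m := 4)).1 (by simpa using hd)
        rw [← Nat.card_eq_fintype_card, h16]
        interval_cases i <;> simp_all
      exact (Cfsg.Agent.S4569.result M hM P h16 (fun a => by
        rw [pow_two]; exact mem_omegaSet.1 (hfull ▸ Finset.mem_univ a)) h9).1
    by_cases h15 : frobIndex P = 15
    · have hΩ16 : (omegaSet P).card = frobIndex P + 1 := by omega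
      have hconj : ∀ y ∈ (P : Subgroup G), y ≠ 1 →
          ∃ n ∈ Subgroup.normalizer ((P : Subgroup G) : Set G), n * x * n⁻¹ = y := by
        intro y hy hy1
        let A := Finset.univ.filter fun a : (P : Subgroup G) =>
          ∃ n ∈ Subgroup.normalizer ((P : Subgroup G) : Set G), n * x * n⁻¹ = a
        have hA : A = (Finset.univ : Finset (P : Subgroup G)).erase 1 := by
          refine Finset.eq_of_subset_of_card_le (fun a ha => ?_) ?_
          · obtain ⟨n, -, e⟩ := (Finset.mem_filter.1 ha).2
            refine Finset.mem_erase.2 ⟨fun h1 => ?_, Finset.mem_univ _⟩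
            rw [h1] at e
            exact (by simp [hx2] : orderOf x ≠ 1) (orderOf_eq_one_iff.2 (conj_eq_one_iff.1 e))
          · rw [Finset.card_erase_of_mem (Finset.mem_univ _), Finset.card_univ, ← Nat.card_eq_fintype_card, h16]
            have hle : frobIndex P ≤ A.card := by
              let F : (Subgroup.normalizer ((P : Subgroup G) : Set G)) ⧸
                  (Subgroup.centralizer ((P : Subgroup G) : Set G)).subgroupOf
                    (Subgroup.normalizer ((P : Subgroup G) : Set G)) → {a // a ∈ A} :=
                fun q => ⟨conjSyl P q.out ⟨x, hx⟩, Finset.mem_filter.2 ⟨Finset.mem_univ _, q.out.1, q.out.2, rfl⟩⟩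
              have hF : Function.Injective F := by
                intro a b hab'
                have e : (a.out : G) * x * (a.out : G)⁻¹ = (b.out : G) * x * (b.out : G)⁻¹ :=
                  congrArg (fun v => ((v.1 : (P : Subgroup G)) : G)) hab'
                have hc : ((a.out⁻¹ * b.out : Subgroup.normalizer ((P : Subgroup G) : Set G)) : G) * x =
                    x * ((a.out⁻¹ * b.out : Subgroup.normalizer ((P : Subgroup G) : Set G)) : G) := by
                  rw [Subgroup.coe_mul, Subgroup.coe_inv]
                  calc (a.out : G)⁻¹ * b.out * x =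
                        (a.out : G)⁻¹ * ((b.out : G) * x * (b.out : G)⁻¹) * b.out := by group
                    _ = (a.out : G)⁻¹ * ((a.out : G) * x * (a.out : G)⁻¹) * b.out := by rw [e]
                    _ = _ := by group
                rw [← QuotientGroup.out_eq' a, ← QuotientGroup.out_eq' b]
                exact QuotientGroup.eq.2 (Subgroup.mem_subgroupOf.2 (hs _ (a.out⁻¹ * b.out).2 hc))
              have h := Nat.card_le_card_of_injective F hF
              rw [Nat.card_eq_fintype_card (α := {a // a ∈ A}), Fintype.card_coe] at h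
              exact h
            omega
        have hmem : (⟨y, hy⟩ : (P : Subgroup G)) ∈ A := by
          rw [hA]
          exact Finset.mem_erase.2 ⟨fun e => hy1 (congrArg Subtype.val e), Finset.mem_univ _⟩
        exact (Finset.mem_filter.1 hmem).2
      have hfix : fixedPart P = ⊥ := by
        refine (Subgroup.eq_bot_iff_forall _).2 fun y hy => ?_
        by_contra hy1
        have : frobIndex P = 1 := by
          obtain ⟨n, hn, e⟩ := hconj y hy.1 hy1
          refine Subgroup.relIndex_eq_one.2 fun t ht => hs t ht ?_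
          have hxy : x = y := by
            rw [← e, show n * x * n⁻¹ = x from ?_]
            have h1 := Subgroup.mem_centralizer_iff.1 hy.2 n hn
            rw [← e] at h1
            have h2 : n * x * n⁻¹ = x := by
              have := congrArg (fun v => n⁻¹ * v) h1
              simpa [mul_assoc] using this
            exact h2
          subst hxy
          exact Subgroup.mem_centralizer_iff.1 hy.2 t ht
        omega
      have hfree : ∀ y ∈ (P : Subgroup G), y ∉ fixedPart P →
          ∀ t ∈ Subgroup.normalizer ((P : Subgroup G) : Set G), t * y = y * t →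
            t ∈ Subgroup.centralizer ((P : Subgroup G) : Set G) := by
        intro y hy hyZ t ht hc
        obtain ⟨n, hn, rfl⟩ := hconj y hy (fun e => hyZ (e ▸ one_mem _))
        have h1 := hs (n⁻¹ * t * n) (mul_mem (mul_mem (inv_mem hn) ht) hn) (by
          calc n⁻¹ * t * n * x = n⁻¹ * (t * (n * x * n⁻¹)) * n := by group
            _ = n⁻¹ * ((n * x * n⁻¹) * t) * n := by rw [hc]
            _ = _ := by group)
        have h2 := normalizer_le_normalizer_centralizer' _ hn
        have h3 := (Subgroup.mem_normalizer_iff.1 h2 _).1 h1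
        simpa [mul_assoc] using h3
      obtain ⟨-, hk, -⟩ := main_invariants hM P hab hfree
        (comm_of_quotient P fun Q _ _ hQ => comm_fifteen (hQ.trans h15)) he1'
      rw [hfix, Subgroup.card_bot, h15, h16] at hk
      omega
    have hp : (frobIndex P).Prime := by
      rcases hcases with h | h | h | h | h | h | h <;> first | omega | (rw [h]; norm_num)
    obtain ⟨-, hk, -⟩ := prime_invariants hM P hab hp
    rw [h16] at hk
    rcases hcases with h | h | h | h | h | h | h <;> rcases hz with z | z | z | z <;> rw [h, z] at hk <;> omega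

end Involution

end Cfsg.Lib.Blocks.PrimeInertial
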