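import Mathlib
import Cfsg.Agent.Blocks.FrobeniusBlock
import Cfsg.Agent.Blocks.SixteenNine.Local
import Cfsg.Agent.Chars.Sums
import Cfsg.Agent.Chars.Gallagher

/-!
# A kernel theorem for principal 2-blocks with a Frobenius normalizer

If a subgroup `W` of odd order is normalized by `N(P)` and `C(y) ≤ W P` for every `y ≠ 1` in the
abelian Sylow 2-subgroup `P`, then `W` lies in the kernel of the principal block.  One counts the
pairs of conjugate involutions whose product lies in `W P` but not in `W`.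
-/

set_option autoImplicit false
set_option linter.unusedSectionVars false

namespace Cfsg.Lib.Blocks.PrimeInertial

open Cfsg.Lib.Chars Cfsg.Lib.Blocks
open scoped _root_.Classical ComplexConjugate

universe u

variable {G : Type u} [Group G] [Fintype G] [Fact (Nat.Prime 2)] {M : Ideal AlgInt}
  {P : Sylow 2 G} {W : Subgroup G}

/-- An odd subgroup covering the centralisers of the elements of `P`. -/
structure Cover (P : Sylow 2 G) (W : Subgroup G) : Prop where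
  frob : FrobeniusNormalizer P
  odd : Odd (Nat.card W)
  norm : Subgroup.normalizer ((P : Subgroup G) : Set G) ≤ Subgroup.normalizer (W : Set G)
  cent : ∀ y : G, y ∈ (P : Subgroup G) → y ≠ 1 →
    Subgroup.centralizer ({y} : Set G) ≤ W ⊔ (P : Subgroup G)

namespace Cover

variable (c : Cover P W)
include c

lemma sylow_norm : (P : Subgroup G) ≤ Subgroup.normalizer (W : Set G) :=
  Subgroup.le_normalizer.trans c.norm

lemma conj_mem {g w : G} (hg : g ∈ (P : Subgroup G)) (hw : w ∈ W) : g * w * g⁻¹ ∈ W :=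
  (Subgroup.mem_normalizer_iff.1 (c.sylow_norm hg) w).1 hw

lemma odd_order {w : G} (hw : w ∈ W) : ¬ 2 ∣ orderOf w := by
  intro h
  have h1 : orderOf w ∣ Nat.card W := by
    rw [← Subgroup.orderOf_mk w hw]; exact orderOf_dvd_natCard _
  exact Nat.not_even_iff_odd.2 c.odd (even_iff_two_dvd.2 (h.trans h1))

lemma eq_one_of_mem {z : G} (hz : z ∈ W) (hk : ∃ k : ℕ, orderOf z = 2 ^ k) : z = 1 := by
  obtain ⟨k, hk⟩ := hk
  rcases k with - | k
  · exact orderOf_eq_one_iff.1 (by rw [hk, pow_zero])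
  · exact absurd (hk ▸ dvd_pow_self 2 (Nat.succ_ne_zero k)) (c.odd_order hz)

lemma eq_one_of_mem_both {z : G} (hz : z ∈ W) (hzP : z ∈ (P : Subgroup G)) : z = 1 :=
  c.eq_one_of_mem hz (orderOf_syl ⟨z, hzP⟩)

lemma exists_split {g : G} (hg : g ∈ W ⊔ (P : Subgroup G)) :
    ∃ y ∈ (P : Subgroup G), ∃ w ∈ W, y * w = g := by
  rw [← SetLike.mem_coe, sup_comm, Subgroup.coe_mul_of_left_le_normalizer_right _ _ c.sylow_norm] at hg
  exact Set.mem_mul.1 hg

lemma split_inj {y y' w w' : G} (hy : y ∈ (P : Subgroup G)) (hy' : y' ∈ (P : Subgroup G))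
    (hw : w ∈ W) (hw' : w' ∈ W) (h : y * w = y' * w') : y = y' ∧ w = w' := by
  have h1 : y'⁻¹ * y = w' * w⁻¹ := by
    rw [eq_mul_inv_iff_mul_eq, mul_assoc, h, inv_mul_cancel_left]
  have h2 := c.eq_one_of_mem_both (h1 ▸ mul_mem hw' (inv_mem hw)) (mul_mem (inv_mem hy') hy)
  obtain rfl : y' = y := inv_mul_eq_one.1 h2
  exact ⟨rfl, mul_left_cancel h⟩

lemma mul_mem_iff {y w : G} (hy : y ∈ (P : Subgroup G)) (hw : w ∈ W) : y * w ∈ W ↔ y = 1 := by
  rw [Subgroup.mul_mem_cancel_right _ hw]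
  exact ⟨fun h => c.eq_one_of_mem_both h hy, fun h => h ▸ one_mem W⟩

lemma pow_split {y w : G} (hy : y ∈ (P : Subgroup G)) (hw : w ∈ W) :
    ∀ j : ℕ, ∃ w' ∈ W, (y * w) ^ j = y ^ j * w'
  | 0 => ⟨1, one_mem W, by simp⟩
  | j + 1 => by
    obtain ⟨w', hw', h⟩ := pow_split hy hw j
    refine ⟨y⁻¹ * w' * y * w, mul_mem ?_ hw, ?_⟩
    · simpa using c.conj_mem (inv_mem hy) hw'
    · rw [pow_succ, h, pow_succ]; group

/-- The elements of odd order of `W P` lie in `W`. -/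
lemma mem_of_odd {g : G} (hg : g ∈ W ⊔ (P : Subgroup G)) (ho : ¬ 2 ∣ orderOf g) : g ∈ W := by
  obtain ⟨y, hy, w, hw, rfl⟩ := c.exists_split hg
  obtain ⟨w', hw', h⟩ := c.pow_split hy hw (orderOf (y * w))
  rw [pow_orderOf_eq_one, ← mul_one (1 : G)] at h
  obtain ⟨h1, -⟩ := c.split_inj (one_mem _) (Subgroup.pow_mem _ hy _) (one_mem W) hw' h
  obtain ⟨k, hk⟩ := orderOf_syl (P := P) ⟨y, hy⟩
  have h2 := orderOf_dvd_of_pow_eq_one h1.symm
  rw [hk] at h2
  have h3 : (2 ^ k : ℕ) = 1 := Nat.eq_one_of_dvd_coprimes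
    ((Nat.prime_two.coprime_iff_not_dvd.2 ho).pow_left k) dvd_rfl h2
  rw [show y = 1 from orderOf_eq_one_iff.1 (hk.trans h3), one_mul]
  exact hw

/-- A 2-element of `W P` is conjugate into `P` under `W`. -/
lemma exists_conj {z : G} (hz : z ∈ W ⊔ (P : Subgroup G)) (hk : ∃ k : ℕ, orderOf z = 2 ^ k) :
    ∃ v ∈ W, v⁻¹ * z * v ∈ (P : Subgroup G) := by
  obtain ⟨k, hk⟩ := hk
  set V := W ⊔ (P : Subgroup G)
  have hp : IsPGroup 2 (Subgroup.zpowers (⟨z, hz⟩ : V)) :=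
    IsPGroup.of_card (n := k) (by rw [Nat.card_zpowers, Subgroup.orderOf_mk, hk])
  obtain ⟨R, hR⟩ := hp.exists_le_sylow
  obtain ⟨m, hm⟩ := MulAction.exists_smul_eq V R (P.subtype le_sup_right)
  have h1 : (m : G) * z * (m : G)⁻¹ ∈ (P : Subgroup G) := by
    have h2 : m * ⟨z, hz⟩ * m⁻¹ ∈ ((m • R : Sylow 2 V) : Subgroup V) :=
      Subgroup.smul_mem_pointwise_smul (a := MulAut.conj m) _ _ (hR (Subgroup.mem_zpowers _))
    rw [hm] at h2
    exact h2
  obtain ⟨y, hy, w, hw, he⟩ := c.exists_split m.2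
  refine ⟨w⁻¹, inv_mem hw, ?_⟩
  have h3 := mul_mem (mul_mem (inv_mem hy) h1) hy
  rwa [← he, show y⁻¹ * (y * w * z * (y * w)⁻¹) * y = w⁻¹⁻¹ * z * w⁻¹ by group] at h3

lemma centralizer_le {y : G} (hy : y ∈ (P : Subgroup G)) (hy1 : y ≠ 1) {u : G}
    (hu : u * y = y * u) : u ∈ W ⊔ (P : Subgroup G) :=
  c.cent y hy hy1 (Subgroup.mem_centralizer_singleton_iff.2 hu)

/-- A singular element whose 2-part lies in `W P`. -/
lemma mem_of_part {g z : G} (hz : z ∈ W ⊔ (P : Subgroup G)) (hz1 : z ≠ 1) (hk : ∃ k : ℕ, orderOf z = 2 ^ k)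
    (hc : g * z = z * g) : g ∈ W ⊔ (P : Subgroup G) := by
  obtain ⟨v, hv, hy⟩ := c.exists_conj hz hk
  have hy1 : v⁻¹ * z * v ≠ 1 := fun h => hz1 (by
    calc z = v * (v⁻¹ * z * v) * v⁻¹ := by group
      _ = 1 := by rw [h]; group)
  have h := c.centralizer_le hy hy1 (u := v⁻¹ * g * v) (by
    calc v⁻¹ * g * v * (v⁻¹ * z * v) = v⁻¹ * (g * z) * v := by group
      _ = v⁻¹ * (z * g) * v := by rw [hc]
      _ = _ := by group)
  have h' := mul_mem (mul_mem (Subgroup.mem_sup_left hv) h) (Subgroup.mem_sup_left (inv_mem hv))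
  rwa [show v * (v⁻¹ * g * v) * v⁻¹ = g by group] at h'

/-- The part of `W` centralising an element. -/
noncomputable def cw (_c : Cover P W) (y : G) : Finset G :=
  Finset.univ.filter fun u => u ∈ W ∧ u * y = y * u

lemma mem_cw {y u : G} : u ∈ c.cw y ↔ u ∈ W ∧ u * y = y * u := by simp [cw]

lemma cw_pos (y : G) : 0 < (c.cw y).card :=
  Finset.card_pos.2 ⟨1, c.mem_cw.2 ⟨one_mem W, by simp⟩⟩

/-- Summing over a coset of `W`. -/
lemma sum_coset {f : G → ℂ} (hf : IsClassFunction G f) {y : G} (hy : y ∈ (P : Subgroup G)) :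
    ((c.cw y).card : ℂ) * ∑ w ∈ Finset.univ.filter (· ∈ W), f (y * w) =
      (Nat.card W : ℂ) * ∑ u ∈ c.cw y, f (y * u) := by
  set Wf := Finset.univ.filter (· ∈ W) with hWf
  set S := Wf ×ˢ c.cw y with hS
  set F : G × G → G := fun q => y⁻¹ * (q.1 * (y * q.2) * q.1⁻¹) with hF
  have hmaps : ∀ q ∈ S, F q ∈ Wf := fun q hq => by
    obtain ⟨h1, h2⟩ := Finset.mem_product.1 hq
    refine Finset.mem_filter.2 ⟨Finset.mem_univ _, ?_⟩
    show y⁻¹ * (q.1 * (y * q.2) * q.1⁻¹) ∈ W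
    rw [show y⁻¹ * (q.1 * (y * q.2) * q.1⁻¹) = y⁻¹ * q.1 * y⁻¹⁻¹ * (q.2 * q.1⁻¹) by group]
    exact mul_mem (c.conj_mem (inv_mem hy) (Finset.mem_filter.1 h1).2)
      (mul_mem (c.mem_cw.1 h2).1 (inv_mem (Finset.mem_filter.1 h1).2))
  have hpart : ∀ q ∈ S, IsPPart 2 (q.1 * (y * q.2) * q.1⁻¹) (q.1 * y * q.1⁻¹) := fun q hq =>
    IsPPart.conj (isPPart_mul (c.mem_cw.1 (Finset.mem_product.1 hq).2).2.symm (orderOf_syl ⟨y, hy⟩)
      (c.odd_order (c.mem_cw.1 (Finset.mem_product.1 hq).2).1)) q.1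
  have hle : ∀ w ∈ Wf, (S.filter fun q => F q = w).card ≤ (c.cw y).card := by
    intro w _
    rcases (S.filter fun q => F q = w).eq_empty_or_nonempty with he | ⟨q₀, hq₀⟩
    · rw [he, Finset.card_empty]; exact Nat.zero_le _
    obtain ⟨hq₀S, hq₀w⟩ := Finset.mem_filter.1 hq₀
    have heq : ∀ q ∈ S.filter (fun q => F q = w),
        q.1 * (y * q.2) * q.1⁻¹ = q₀.1 * (y * q₀.2) * q₀.1⁻¹ :=
      fun q hq => mul_left_cancel ((Finset.mem_filter.1 hq).2.trans hq₀w.symm)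
    refine Finset.card_le_card_of_injOn (fun q => q₀.1⁻¹ * q.1) (fun q hq => ?_) fun q hq q' hq' e => ?_
    · have hqS := (Finset.mem_filter.1 hq).1
      have e1 : q.1 * y * q.1⁻¹ = q₀.1 * y * q₀.1⁻¹ :=
        IsPPart.eq Nat.prime_two (heq q hq ▸ hpart q hqS) (hpart q₀ hq₀S)
      refine c.mem_cw.2 ⟨mul_mem (inv_mem (Finset.mem_filter.1 (Finset.mem_product.1 hq₀S).1).2)
        (Finset.mem_filter.1 (Finset.mem_product.1 hqS).1).2, ?_⟩
      calc q₀.1⁻¹ * q.1 * y = q₀.1⁻¹ * (q.1 * y * q.1⁻¹) * q.1 := by group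
        _ = q₀.1⁻¹ * (q₀.1 * y * q₀.1⁻¹) * q.1 := by rw [e1]
        _ = _ := by group
    · have h1 : q.1 = q'.1 := mul_left_cancel e
      refine Prod.ext h1 ?_
      have h2 := (heq q hq).trans (heq q' hq').symm
      rw [h1] at h2
      exact mul_left_cancel (mul_left_cancel (mul_right_cancel h2))
  have hfib : ∀ w ∈ Wf, (S.filter fun q => F q = w).card = (c.cw y).card := by
    refine (Finset.sum_eq_sum_iff_of_le hle).1 ?_
    rw [← Finset.card_eq_sum_card_fiberwise hmaps, hS, Finset.card_product, Finset.sum_const, smul_eq_mul]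
  have h := Finset.sum_fiberwise_of_maps_to hmaps fun q => f (y * F q)
  rw [Finset.sum_congr rfl fun w hw => show ∑ q ∈ S.filter (fun q => F q = w), f (y * F q) =
      ((c.cw y).card : ℂ) * f (y * w) by
    rw [Finset.sum_congr rfl fun q hq => by rw [(Finset.mem_filter.1 hq).2], Finset.sum_const,
      hfib w hw, nsmul_eq_mul],
    ← Finset.mul_sum] at h
  rw [h, hS, Finset.sum_product, hWf,
    show (Nat.card W : ℂ) = ((Finset.univ.filter (· ∈ W)).card : ℂ) by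
      rw [← Fintype.card_subtype, ← Nat.card_eq_fintype_card],
    ← nsmul_eq_mul, ← Finset.sum_const]
  refine Finset.sum_congr rfl fun v _ => Finset.sum_congr rfl fun u _ => ?_
  show f (y * (y⁻¹ * (v * (y * u) * v⁻¹))) = _
  rw [mul_inv_cancel_left, hf]

/-- The regular elements of a centraliser. -/
lemma sum_regular_centralizer {y : G} (hy : y ∈ (P : Subgroup G)) (hy1 : y ≠ 1) (f : G → ℂ) :
    ∑ w ∈ Finset.univ.filter (fun w : Subgroup.centralizer (Subgroup.zpowers y : Set G) => ¬ 2 ∣ orderOf w),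
      f (w : G) = ∑ u ∈ c.cw y, f u := by
  have hmem : ∀ u : G, u ∈ Subgroup.centralizer (Subgroup.zpowers y : Set G) ↔ u * y = y * u := fun u => by
    rw [centralizer_zpowers, Subgroup.mem_centralizer_singleton_iff]
  refine Finset.sum_bij (fun w _ => (w : G)) (fun w hw => ?_) (fun _ _ _ _ e => Subtype.ext e)
    (fun u hu => ?_) fun _ _ => rfl
  · have hw' := (Finset.mem_filter.1 hw).2
    rw [← Subgroup.orderOf_coe] at hw'
    exact c.mem_cw.2 ⟨c.mem_of_odd (c.centralizer_le hy hy1 ((hmem _).1 w.2)) hw', (hmem _).1 w.2⟩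
  · obtain ⟨h1, h2⟩ := c.mem_cw.1 hu
    refine ⟨⟨u, (hmem u).2 h2⟩, Finset.mem_filter.2 ⟨Finset.mem_univ _, ?_⟩, rfl⟩
    rw [← Subgroup.orderOf_coe]
    exact c.odd_order h1

lemma card_centralizer {y : G} (hy : y ∈ (P : Subgroup G)) (hy1 : y ≠ 1) :
    Nat.card (Subgroup.centralizer ({y} : Set G)) = (c.cw y).card * Nat.card (P : Subgroup G) := by
  have h := card_regular_centralizer c.frob Nat.prime_two hy hy1
  have e := c.sum_regular_centralizer hy hy1 fun _ => (1 : ℂ)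
  rw [Finset.sum_const, Finset.sum_const, nsmul_one, nsmul_one, Nat.cast_inj] at e
  rw [← centralizer_zpowers, ← h, e]

lemma sum_coset_principal (hM : IsPModular 2 M) {y : G} (hy : y ∈ (P : Subgroup G)) (hy1 : y ≠ 1)
    {χ : IrrCharacter G} (hχ : χ ∈ principalBlock M G) :
    ∑ w ∈ Finset.univ.filter (· ∈ W), (χ : G → ℂ) (y * w) = (Nat.card W : ℂ) * (χ : G → ℂ) y := by
  have h := c.sum_coset (isClassFunction_irr χ) hy
  rw [← c.sum_regular_centralizer hy hy1 fun u => (χ : G → ℂ) (y * u),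
    Finset.sum_congr rfl fun w hw => apply_mul_of_mem_principal hM c.frob hy hy1 hχ (Finset.mem_filter.1 hw).2,
    c.sum_regular_centralizer hy hy1 fun _ => (χ : G → ℂ) y, Finset.sum_const, nsmul_eq_mul] at h
  exact mul_left_cancel₀ (Nat.cast_ne_zero.2 (c.cw_pos y).ne') (h.trans (mul_left_comm _ _ _))

lemma sum_coset_outside (hM : IsPModular 2 M) {y : G} (hy : y ∈ (P : Subgroup G)) (hy1 : y ≠ 1)
    {χ : IrrCharacter G} (hχ : χ ∉ principalBlock M G) :
    ∑ w ∈ Finset.univ.filter (· ∈ W), (χ : G → ℂ) (y * w) = 0 := by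
  have h := c.sum_coset (isClassFunction_irr χ) hy
  rw [← c.sum_regular_centralizer hy hy1 fun u => (χ : G → ℂ) (y * u),
    sum_section_eq_zero hM c.frob hy hy1 hχ, mul_zero] at h
  exact (mul_eq_zero.1 h).resolve_left (Nat.cast_ne_zero.2 (c.cw_pos y).ne')

lemma sum_sup (f : G → ℂ) :
    ∑ g ∈ Finset.univ.filter (· ∈ W ⊔ (P : Subgroup G)), f g =
      ∑ y ∈ Finset.univ.filter (· ∈ (P : Subgroup G)), ∑ w ∈ Finset.univ.filter (· ∈ W), f (y * w) := by
  rw [← Finset.sum_product']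
  symm
  refine Finset.sum_bij (fun q _ => q.1 * q.2) (fun q hq => ?_) (fun q hq q' hq' e => ?_) (fun g hg => ?_)
    fun _ _ => rfl
  · obtain ⟨h1, h2⟩ := Finset.mem_product.1 hq
    exact Finset.mem_filter.2 ⟨Finset.mem_univ _,
      mul_mem (Subgroup.mem_sup_right (Finset.mem_filter.1 h1).2) (Subgroup.mem_sup_left (Finset.mem_filter.1 h2).2)⟩
  · obtain ⟨h1, h2⟩ := Finset.mem_product.1 hq
    obtain ⟨h1', h2'⟩ := Finset.mem_product.1 hq'
    obtain ⟨e1, e2⟩ := c.split_inj (Finset.mem_filter.1 h1).2 (Finset.mem_filter.1 h1').2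
      (Finset.mem_filter.1 h2).2 (Finset.mem_filter.1 h2').2 e
    exact Prod.ext e1 e2
  · obtain ⟨y, hy, w, hw, rfl⟩ := c.exists_split (Finset.mem_filter.1 hg).2
    exact ⟨(y, w), Finset.mem_product.2 ⟨Finset.mem_filter.2 ⟨Finset.mem_univ _, hy⟩,
      Finset.mem_filter.2 ⟨Finset.mem_univ _, hw⟩⟩, rfl⟩

lemma card_sup : Nat.card (W ⊔ (P : Subgroup G) : Subgroup G) = Nat.card W * Nat.card (P : Subgroup G) := by
  have h := c.sum_sup fun _ => (1 : ℂ)
  simp only [Finset.sum_const, nsmul_eq_mul, mul_one, ← Fintype.card_subtype, ← Nat.card_eq_fintype_card] at h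
  rw [← Nat.cast_mul, Nat.cast_inj] at h
  rw [mul_comm]
  exact h

end Cover

end Cfsg.Lib.Blocks.PrimeInertial
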