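import Mathlib
import Cfsg.Agent.Blocks.PrimeInertial.Kernel

/-!
# The count of pairs of involutions and the kernel theorem
-/

set_option autoImplicit false
set_option linter.unusedSectionVars false

namespace Cfsg.Lib.Blocks.PrimeInertial

open Cfsg.Lib.Chars Cfsg.Lib.Blocks
open scoped _root_.Classical ComplexConjugate

universe u

variable {G : Type u} [Group G] [Fintype G] [Fact (Nat.Prime 2)] {M : Ideal AlgInt}
  {P : Sylow 2 G} {W : Subgroup G}

lemma card_filter_mem (H : Subgroup G) : (Finset.univ.filter (· ∈ H)).card = Nat.card H := by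
  rw [← Fintype.card_subtype, ← Nat.card_eq_fintype_card]

/-- The average of a character over a subgroup is a natural number. -/
lemma exists_mult (H : Subgroup G) (χ : IrrCharacter G) :
    ∃ m : ℕ, ∑ g ∈ Finset.univ.filter (· ∈ H), (χ : G → ℂ) g = (Nat.card H : ℂ) * m := by
  obtain ⟨m, hm⟩ := classInner_char_nat (IsCharacter.restrict (isCharacter_of_irr χ.2) H)
    (isCharacter_one (G := H))
  refine ⟨m, ?_⟩
  rw [← hm, classInner_def, ← mul_assoc, mul_inv_cancel₀ (Nat.cast_ne_zero.2 Nat.card_pos.ne'), one_mul,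
    Finset.sum_subtype (p := (· ∈ H)) _ (fun g => by simp) fun g => (χ : G → ℂ) g]
  exact Finset.sum_congr rfl fun h _ => by rw [map_one, mul_one]

/-- The multiplicity of the trivial character on a subgroup. -/
noncomputable def mult (H : Subgroup G) (χ : IrrCharacter G) : ℕ := (exists_mult H χ).choose

lemma mult_spec (H : Subgroup G) (χ : IrrCharacter G) :
    ∑ g ∈ Finset.univ.filter (· ∈ H), (χ : G → ℂ) g = (Nat.card H : ℂ) * mult H χ :=
  (exists_mult H χ).choose_spec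

lemma mult_eq (H : Subgroup G) (χ : IrrCharacter G) {m : ℕ}
    (h : ∑ g ∈ Finset.univ.filter (· ∈ H), (χ : G → ℂ) g = (Nat.card H : ℂ) * m) : mult H χ = m :=
  Nat.cast_injective (R := ℂ) (mul_left_cancel₀ (Nat.cast_ne_zero.2 Nat.card_pos.ne')
    ((mult_spec H χ).symm.trans h))

lemma mult_principal (H : Subgroup G) : mult H (principal G) = 1 := by
  refine mult_eq H _ ?_
  show ∑ g ∈ _, (1 : ℂ) = _
  rw [Finset.sum_const, card_filter_mem, nsmul_one, Nat.cast_one, mul_one]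

/-- A smaller subgroup fixes more. -/
lemma mult_mono {H K : Subgroup G} (h : H ≤ K) (χ : IrrCharacter G) : mult K χ ≤ mult H χ := by
  obtain ⟨n, hn⟩ := IsCharacter.exists_decomp (IsCharacter.restrict (isCharacter_of_irr χ.2) K)
  have hval : ∀ k : K, (χ : G → ℂ) k = ∑ φ : IrrCharacter K, (n φ : ℂ) * (φ : K → ℂ) k := fun k => by
    have := congrFun hn k
    simpa [Finset.sum_apply, nsmul_eq_mul] using this
  have hsum : ∀ L : Subgroup G, L ≤ K → ∑ g ∈ Finset.univ.filter (· ∈ L), (χ : G → ℂ) g =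
      ∑ φ : IrrCharacter K, (n φ : ℂ) *
        ∑ k ∈ Finset.univ.filter (· ∈ L.subgroupOf K), (φ : K → ℂ) k := by
    intro L hL
    simp only [Finset.mul_sum]
    rw [Finset.sum_comm]
    refine Eq.trans ?_ (Finset.sum_congr rfl fun k _ => hval k)
    exact Finset.sum_bij' (fun g hg => (⟨g, hL (Finset.mem_filter.1 hg).2⟩ : K)) (fun k _ => (k : G))
      (fun g hg => Finset.mem_filter.2 ⟨Finset.mem_univ _, (Finset.mem_filter.1 hg).2⟩)
      (fun k hk => Finset.mem_filter.2 ⟨Finset.mem_univ _, (Finset.mem_filter.1 hk).2⟩)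
      (fun _ _ => rfl) (fun _ _ => rfl) fun _ _ => rfl
  have hall : ∀ L : Subgroup G, L ≤ K → mult L χ = ∑ φ : IrrCharacter K, n φ * mult (L.subgroupOf K) φ := by
    intro L hL
    refine mult_eq L χ ?_
    rw [hsum L hL, Nat.cast_sum, Finset.mul_sum]
    refine Finset.sum_congr rfl fun φ _ => ?_
    rw [mult_spec, Nat.card_congr (Subgroup.subgroupOfEquivOfLe hL).toEquiv]
    push_cast
    ring
  have htop : ∀ φ : IrrCharacter K, φ ≠ principal K → mult (K.subgroupOf K) φ = 0 := fun φ hφ => by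
    refine mult_eq _ φ ?_
    have h0 := classInner_irr_ne hφ
    rw [classInner_def, mul_eq_zero] at h0
    have h1 := h0.resolve_left (inv_ne_zero (Nat.cast_ne_zero.2 Nat.card_pos.ne'))
    rw [Nat.cast_zero, mul_zero, ← h1]
    refine Finset.sum_congr (by ext k; simp [Subgroup.mem_subgroupOf]) fun k _ => ?_
    show (φ : K → ℂ) k = (φ : K → ℂ) k * conj (1 : ℂ)
    rw [map_one, mul_one]
  rw [hall K le_rfl, hall H h]
  refine Finset.sum_le_sum fun φ _ => ?_
  by_cases hφ : φ = principal K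
  · subst hφ; rw [mult_principal, mult_principal]
  · rw [htop φ hφ, mul_zero]; exact Nat.zero_le _

/-- Multiplicities weighted by degrees. -/
lemma sum_mult_deg (H : Subgroup G) :
    ∑ χ : IrrCharacter G, (χ : G → ℂ) 1 * (mult H χ : ℂ) = (Nat.card G : ℂ) / Nat.card H := by
  rw [eq_div_iff (Nat.cast_ne_zero.2 Nat.card_pos.ne'), Finset.sum_mul,
    Finset.sum_congr rfl fun (χ : IrrCharacter G) (_ : χ ∈ Finset.univ) => show (χ : G → ℂ) 1 * (mult H χ : ℂ) * Nat.card H =
      ∑ g ∈ Finset.univ.filter (· ∈ H), (χ : G → ℂ) 1 * (χ : G → ℂ) g by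
        rw [← Finset.mul_sum, mult_spec]; ring,
    Finset.sum_comm, Finset.sum_congr rfl fun g _ => sum_deg_mul g, Finset.sum_ite_eq',
    if_pos (Finset.mem_filter.2 ⟨Finset.mem_univ _, one_mem H⟩)]

lemma mult_le_deg (H : Subgroup G) (χ : IrrCharacter G) :
    mult H χ ≤ deg (χ : G → ℂ) ∧
      (mult H χ = deg (χ : G → ℂ) → ∀ g ∈ H, (χ : G → ℂ) g = (χ : G → ℂ) 1) := by
  have hre : ∀ g, ((χ : G → ℂ) g).re ≤ (deg (χ : G → ℂ) : ℝ) := fun g => by
    refine (Complex.re_le_norm _).trans ((IsCharacter.norm_le (isCharacter_of_irr χ.2) g).trans ?_)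
    rw [irr_apply_one_eq_deg, Complex.natCast_re]
  have h := congrArg Complex.re (mult_spec H χ)
  rw [Complex.re_sum, ← Nat.cast_mul, Complex.natCast_re, Nat.cast_mul] at h
  have hle := Finset.sum_le_sum (s := Finset.univ.filter (· ∈ H)) fun g _ => hre g
  rw [Finset.sum_const, card_filter_mem, nsmul_eq_mul, h] at hle
  have hpos : (0 : ℝ) < Nat.card H := Nat.cast_pos.2 Nat.card_pos
  refine ⟨by exact_mod_cast le_of_mul_le_mul_left hle hpos, fun heq g hg => ?_⟩
  have hall := (Finset.sum_eq_sum_iff_of_le fun g (_ : g ∈ Finset.univ.filter (· ∈ H)) => hre g).1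
    (by rw [h, Finset.sum_const, card_filter_mem, nsmul_eq_mul, heq]) g
    (Finset.mem_filter.2 ⟨Finset.mem_univ _, hg⟩)
  have hn := IsCharacter.norm_le (isCharacter_of_irr χ.2) g
  rw [irr_apply_one_eq_deg, Complex.natCast_re] at hn
  have hsq : Complex.normSq ((χ : G → ℂ) g) ≤ (deg (χ : G → ℂ) : ℝ) ^ 2 := by
    rw [Complex.normSq_eq_norm_sq]
    exact pow_le_pow_left₀ (norm_nonneg _) hn 2
  rw [Complex.normSq_apply, hall] at hsq
  have him : ((χ : G → ℂ) g).im = 0 := by nlinarith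
  rw [irr_apply_one_eq_deg]
  exact Complex.ext (by rw [hall, Complex.natCast_re]) (by rw [him, Complex.natCast_im])

lemma exists_involution_pow {g : G} (hg : 2 ∣ orderOf g) :
    ∃ j : ℕ, orderOf (g ^ j) = 2 :=
  ⟨orderOf g / 2, by
    rw [orderOf_pow_of_dvd (by
        have := orderOf_pos g
        have := Nat.le_of_dvd (orderOf_pos g) hg
        omega) (Nat.div_dvd_of_dvd hg),
      Nat.div_div_self hg (orderOf_pos g).ne']⟩

lemma card_centralizer_isConj {a b : G} (h : IsConj a b) :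
    Nat.card (Subgroup.centralizer ({b} : Set G)) = Nat.card (Subgroup.centralizer ({a} : Set G)) := by
  obtain ⟨g, rfl⟩ := isConj_iff.1 h
  refine (Nat.card_congr ((MulAut.conj g).toEquiv.subtypeEquiv fun x => ?_)).symm
  rw [Subgroup.mem_centralizer_singleton_iff, Subgroup.mem_centralizer_singleton_iff]
  show x * a = a * x ↔ g * x * g⁻¹ * (g * a * g⁻¹) = g * a * g⁻¹ * (g * x * g⁻¹)
  rw [show g * x * g⁻¹ * (g * a * g⁻¹) = g * (x * a) * g⁻¹ by group,
    show g * a * g⁻¹ * (g * x * g⁻¹) = g * (a * x) * g⁻¹ by group, mul_left_inj, mul_right_inj]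

namespace Cover

variable (c : Cover P W) {x : G}
include c

section

variable (hx : x ∈ (P : Subgroup G)) (hx2 : orderOf x = 2)
include hx hx2

lemma x_ne_one : x ≠ 1 := fun h => by simp [h] at hx2

/-- The involutions of the class in a coset. -/
lemma count_coset {y : G} (hy : y ∈ (P : Subgroup G)) :
    ((c.cw x).card : ℂ) * ∑ w ∈ Finset.univ.filter (· ∈ W), (if IsConj x (y * w) then (1 : ℂ) else 0) =
      if IsConj x y then (Nat.card W : ℂ) else 0 := by
  have hord : ∀ {b : G}, IsConj x b → orderOf b = 2 := fun {b} h => by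
    obtain ⟨g, rfl⟩ := isConj_iff.1 h
    rw [show g * x * g⁻¹ = MulAut.conj g x from rfl, MulEquiv.orderOf_eq, hx2]
  by_cases hy1 : y = 1
  · subst hy1
    rw [if_neg fun h => c.x_ne_one hx hx2 (isConj_one_left.1 h), Finset.sum_eq_zero fun w hw => if_neg fun h => ?_,
      mul_zero]
    exact c.odd_order (Finset.mem_filter.1 hw).2 (by rw [one_mul] at h; rw [hord h])
  have hiff : ∀ u ∈ c.cw y, IsConj x (y * u) ↔ u = 1 ∧ IsConj x y := fun u hu => by
    refine ⟨fun h => ?_, fun h => by rw [h.1, mul_one]; exact h.2⟩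
    obtain ⟨hu1, hu2⟩ := c.mem_cw.1 hu
    have h1 := IsPPart.eq Nat.prime_two (isPPart_mul hu2.symm (orderOf_syl ⟨y, hy⟩) (c.odd_order hu1))
      (isPPart_self Nat.prime_two ⟨1, by rw [hord h, pow_one]⟩)
    obtain rfl : u = 1 := mul_eq_left.1 h1.symm
    exact ⟨rfl, by rwa [mul_one] at h⟩
  have hsum : ∑ u ∈ c.cw y, (if IsConj x (y * u) then (1 : ℂ) else 0) = if IsConj x y then 1 else 0 := by
    rw [Finset.sum_eq_single (1 : G) (fun u hu hu1 => if_neg fun h => hu1 ((hiff u hu).1 h).1)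
      (fun h => absurd (c.mem_cw.2 ⟨one_mem W, by simp⟩) h), mul_one]
  have hf : IsClassFunction G fun g => if IsConj x g then (1 : ℂ) else 0 := fun a b => by
    have : IsConj x (b * a * b⁻¹) ↔ IsConj x a :=
      ⟨fun H => H.trans (isConj_iff.2 ⟨b⁻¹, by group⟩), fun H => H.trans (isConj_iff.2 ⟨b, rfl⟩)⟩
    simp only [this]
  have h := c.sum_coset hf hy
  rw [hsum] at h
  by_cases hc : IsConj x y
  · have he : (c.cw y).card = (c.cw x).card := Nat.eq_of_mul_eq_mul_right Nat.card_pos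
      ((c.card_centralizer hy hy1).symm.trans
        ((card_centralizer_isConj hc).trans (c.card_centralizer hx (c.x_ne_one hx hx2))))
    rw [if_pos hc] at h ⊢
    rw [← he, h, mul_one]
  · rw [if_neg hc] at h ⊢
    rw [mul_zero] at h
    rw [(mul_eq_zero.1 h).resolve_left (Nat.cast_ne_zero.2 (c.cw_pos y).ne'), mul_zero]

lemma card_class : (Finset.univ.filter fun y => y ∈ (P : Subgroup G) ∧ IsConj x y).card = frobIndex P := by
  rw [← natCard_isConj_syl c.frob (y := ⟨x, hx⟩) fun h => c.x_ne_one hx hx2 (congrArg Subtype.val h),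
    ← Fintype.card_subtype, ← Nat.card_eq_fintype_card]
  exact Nat.card_congr ⟨fun a => ⟨⟨a.1, a.2.1⟩, a.2.2⟩, fun b => ⟨b.1.1, b.1.2, b.2⟩, fun _ => rfl, fun _ => rfl⟩

lemma mem_of_class_mul {a b : G} (ha : IsConj x a) (hb : IsConj x b)
    (hab : a * b ∈ W ⊔ (P : Subgroup G)) (hn : a * b ∉ W) :
    a ∈ W ⊔ (P : Subgroup G) ∧ b ∈ W ⊔ (P : Subgroup G) := by
  have hinv : ∀ {b : G}, IsConj x b → b * b = 1 := fun {b} h => by
    obtain ⟨g, rfl⟩ := isConj_iff.1 h
    have h2 : x * x = 1 := by rw [← pow_two, ← hx2, pow_orderOf_eq_one]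
    calc g * x * g⁻¹ * (g * x * g⁻¹) = g * (x * x) * g⁻¹ := by group
      _ = 1 := by rw [h2]; group
  obtain ⟨j, hj⟩ : ∃ j : ℕ, orderOf ((a * b) ^ j) = 2 :=
    exists_involution_pow (by_contra fun h => hn (c.mem_of_odd hab h))
  set i := (a * b) ^ j
  have hi : i * i = 1 := by rw [← pow_two, ← hj, pow_orderOf_eq_one]
  have hflip : a * i * a⁻¹ = i⁻¹ := by
    rw [← conj_pow, ← inv_pow]
    congr 1
    calc a * (a * b) * a⁻¹ = (a * a) * b * a⁻¹ := by group
      _ = b * a⁻¹ := by rw [hinv ha, one_mul]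
      _ = b⁻¹ * a⁻¹ := by rw [inv_eq_of_mul_eq_one_right (hinv hb)]
      _ = _ := by group
  rw [inv_eq_of_mul_eq_one_right hi, mul_inv_eq_iff_eq_mul] at hflip
  have haV := c.mem_of_part (Subgroup.pow_mem _ hab j) (fun h => by rw [show i = 1 from h, orderOf_one] at hj; omega)
    ⟨1, by rw [hj, pow_one]⟩ hflip
  exact ⟨haV, (Subgroup.mul_mem_cancel_left _ haV).1 hab⟩

lemma pair_count :
    ((c.cw x).card : ℂ) ^ 2 * (∑ g ∈ Finset.univ.filter (fun g => g ∈ W ⊔ (P : Subgroup G) ∧ g ∉ W),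
      (Nat.card {p : G × G // IsConj x p.1 ∧ IsConj x p.2 ∧ p.1 * p.2 = g} : ℂ)) =
    (Nat.card W : ℂ) ^ 2 * ((frobIndex P : ℂ) ^ 2 - frobIndex P) := by
  set Pf := Finset.univ.filter (· ∈ (P : Subgroup G))
  set Wf := Finset.univ.filter (· ∈ W)
  let ind : G → ℂ := fun g => if IsConj x g then 1 else 0
  let out : G → ℂ := fun g => if g ∈ W ⊔ (P : Subgroup G) ∧ g ∉ W then 1 else 0
  have h1 : (∑ g ∈ Finset.univ.filter (fun g => g ∈ W ⊔ (P : Subgroup G) ∧ g ∉ W),
      (Nat.card {p : G × G // IsConj x p.1 ∧ IsConj x p.2 ∧ p.1 * p.2 = g} : ℂ)) =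
      ∑ a ∈ Finset.univ.filter (· ∈ W ⊔ (P : Subgroup G)), ∑ b ∈ Finset.univ.filter (· ∈ W ⊔ (P : Subgroup G)),
        ind a * ind b * out (a * b) := by
    rw [Finset.sum_congr rfl fun g _ => show
        (Nat.card {p : G × G // IsConj x p.1 ∧ IsConj x p.2 ∧ p.1 * p.2 = g} : ℂ) =
        ∑ a : G, ∑ b : G, if a * b = g then ind a * ind b else 0 by
      rw [Nat.card_eq_fintype_card, Fintype.card_subtype, ← Fintype.sum_prod_type',
        Finset.natCast_card_filter]
      refine Finset.sum_congr rfl fun p _ => ?_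
      simp only [ind]
      by_cases h0 : p.1 * p.2 = g <;> by_cases h1 : IsConj x p.1 <;> by_cases h2 : IsConj x p.2 <;>
        simp only [h0, h1, h2, and_self, and_true, and_false, if_true, if_false, mul_one, mul_zero],
      Finset.sum_comm]
    rw [Finset.sum_filter (fun a : G => a ∈ W ⊔ (P : Subgroup G))]
    refine Finset.sum_congr rfl fun a _ => ?_
    rw [Finset.sum_comm]
    by_cases haV : a ∈ W ⊔ (P : Subgroup G)
    · rw [if_pos haV, Finset.sum_filter (fun b : G => b ∈ W ⊔ (P : Subgroup G))]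
      refine Finset.sum_congr rfl fun b _ => ?_
      rw [Finset.sum_ite_eq]
      simp only [Finset.mem_filter, Finset.mem_univ, true_and, out, Subgroup.mul_mem_cancel_left _ haV]
      by_cases hb : b ∈ W ⊔ (P : Subgroup G) <;> by_cases hn : a * b ∈ W <;> simp [hb, hn]
    · rw [if_neg haV]
      refine Finset.sum_eq_zero fun b _ => Finset.sum_eq_zero fun g hg => ?_
      obtain ⟨-, hD⟩ := Finset.mem_filter.1 hg
      by_cases hg' : a * b = g
      · subst hg'
        rw [if_pos rfl]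
        by_cases ha : IsConj x a
        · by_cases hb : IsConj x b
          · exact absurd (c.mem_of_class_mul hx hx2 ha hb hD.1 hD.2).1 haV
          · show ind a * ind b = 0
            rw [show ind b = 0 from if_neg hb, mul_zero]
        · rw [show ind a = 0 from if_neg ha, zero_mul]
      · rw [if_neg hg']
  rw [h1, c.sum_sup]
  have hout : ∀ y₁ ∈ Pf, ∀ w₁ ∈ Wf, ∀ y₂ ∈ Pf, ∀ w₂ ∈ Wf,
      out (y₁ * w₁ * (y₂ * w₂)) = if y₁ * y₂ = 1 then 0 else 1 := by
    intro y₁ hy₁ w₁ hw₁ y₂ hy₂ w₂ hw₂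
    have hy₁' := (Finset.mem_filter.1 hy₁).2
    have hy₂' := (Finset.mem_filter.1 hy₂).2
    have hwy : y₂⁻¹ * w₁ * y₂ * w₂ ∈ W := mul_mem
      (by simpa using c.conj_mem (inv_mem hy₂') (Finset.mem_filter.1 hw₁).2) (Finset.mem_filter.1 hw₂).2
    have hmem := c.mul_mem_iff (mul_mem hy₁' hy₂') hwy
    show (if _ ∧ _ then (1 : ℂ) else 0) = _
    rw [show y₁ * w₁ * (y₂ * w₂) = y₁ * y₂ * (y₂⁻¹ * w₁ * y₂ * w₂) by group]
    by_cases h : y₁ * y₂ = 1
    · rw [if_pos h, if_neg fun h' => h'.2 (hmem.2 h)]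
    · rw [if_neg h, if_pos ⟨mul_mem (Subgroup.mem_sup_right (mul_mem hy₁' hy₂'))
        (Subgroup.mem_sup_left hwy), fun h' => h (hmem.1 h')⟩]
  simp only [c.sum_sup]
  have h2 : ∀ y₁ ∈ Pf, ∀ w₁ ∈ Wf, ∑ y₂ ∈ Pf, ∑ w₂ ∈ Wf, ind (y₁ * w₁) * ind (y₂ * w₂) * out (y₁ * w₁ * (y₂ * w₂)) =
      ind (y₁ * w₁) * ∑ y₂ ∈ Pf, (if y₁ * y₂ = 1 then 0 else 1) * ∑ w₂ ∈ Wf, ind (y₂ * w₂) := by
    intro y₁ hy₁ w₁ hw₁
    rw [Finset.mul_sum]
    refine Finset.sum_congr rfl fun y₂ hy₂ => ?_
    rw [Finset.mul_sum, Finset.mul_sum]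
    refine Finset.sum_congr rfl fun w₂ hw₂ => ?_
    rw [hout y₁ hy₁ w₁ hw₁ y₂ hy₂ w₂ hw₂]
    ring
  rw [Finset.sum_congr rfl fun y₁ hy₁ => by rw [Finset.sum_congr rfl (h2 y₁ hy₁), ← Finset.sum_mul],
    Finset.mul_sum]
  set R0 := Finset.univ.filter fun y => y ∈ (P : Subgroup G) ∧ IsConj x y with hR0
  have hR : R0 = Pf.filter (IsConj x) := by rw [hR0, Finset.filter_filter]
  have hterm : ∀ y₁ ∈ Pf, ((c.cw x).card : ℂ) ^ 2 * ((∑ w₁ ∈ Wf, ind (y₁ * w₁)) *
      ∑ y₂ ∈ Pf, (if y₁ * y₂ = 1 then 0 else 1) * ∑ w₂ ∈ Wf, ind (y₂ * w₂)) =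
      if IsConj x y₁ then (Nat.card W : ℂ) ^ 2 * ((frobIndex P : ℂ) - 1) else 0 := by
    intro y₁ hy₁
    have e1 := c.count_coset hx hx2 (Finset.mem_filter.1 hy₁).2
    rw [pow_two, show ∀ a s t : ℂ, a * a * (s * t) = (a * s) * (a * t) from fun a s t => by ring, e1,
      Finset.mul_sum, Finset.sum_congr rfl fun y₂ hy₂ => by
        rw [mul_left_comm, c.count_coset hx hx2 (Finset.mem_filter.1 hy₂).2]]
    by_cases hc : IsConj x y₁
    · rw [if_pos hc, if_pos hc]
      have hsq : ∀ y, y₁ * y = 1 ↔ y = y₁ := fun y => by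
        have h2 : y₁ * y₁ = 1 := by
          obtain ⟨g, rfl⟩ := isConj_iff.1 hc
          have h2 : x * x = 1 := by rw [← pow_two, ← hx2, pow_orderOf_eq_one]
          calc g * x * g⁻¹ * (g * x * g⁻¹) = g * (x * x) * g⁻¹ := by group
            _ = 1 := by rw [h2]; group
        exact ⟨fun h => mul_left_cancel (h.trans h2.symm), fun h => h ▸ h2⟩
      have hy₁R : y₁ ∈ R0 := by rw [hR]; exact Finset.mem_filter.2 ⟨hy₁, hc⟩
      rw [Finset.sum_congr rfl fun y₂ (_ : y₂ ∈ Pf) => show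
          (if y₁ * y₂ = 1 then 0 else 1) * (if IsConj x y₂ then (Nat.card W : ℂ) else 0) =
          if IsConj x y₂ then (if y₂ = y₁ then 0 else (Nat.card W : ℂ)) else 0 by
            simp only [hsq]; split_ifs <;> simp,
        ← Finset.sum_filter, ← hR, ← Finset.add_sum_erase _ _ hy₁R, if_pos rfl, zero_add,
        Finset.sum_congr rfl fun y hy => if_neg (Finset.ne_of_mem_erase hy), Finset.sum_const,
        Finset.card_erase_of_mem hy₁R, c.card_class hx hx2, nsmul_eq_mul,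
        Nat.cast_sub (frobIndex_pos P), Nat.cast_one]
      ring
    · rw [if_neg hc, if_neg hc, zero_mul]
  rw [Finset.sum_congr rfl hterm, ← Finset.sum_filter, ← hR, Finset.sum_const, c.card_class hx hx2,
    nsmul_eq_mul]
  ring

/-- The principal block column of an involution against the elements of `P`. -/
lemma sum_principal (hM : IsPModular 2 M) {y : G} (hy : y ∈ (P : Subgroup G)) (hy1 : y ≠ 1) :
    ∑ χ ∈ Finset.univ.filter (· ∈ principalBlock M G), (χ : G → ℂ) y * conj ((χ : G → ℂ) x) =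
      if IsConj x y then (Nat.card (P : Subgroup G) : ℂ) else 0 := by
  have hθ : ((c.cw y).card : ℂ) ≠ 0 := Nat.cast_ne_zero.2 (c.cw_pos y).ne'
  refine mul_left_cancel₀ hθ ?_
  have key : ∑ u ∈ c.cw y, ∑ χ : IrrCharacter G, (χ : G → ℂ) (y * u) * conj ((χ : G → ℂ) x) =
      ((c.cw y).card : ℂ) * if IsConj x y then (Nat.card (P : Subgroup G) : ℂ) else 0 := by
    simp only [second_orthogonality]
    rw [Finset.sum_eq_single (1 : G)]
    · rw [mul_one, c.card_centralizer hy hy1]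
      by_cases hc : IsConj x y
      · rw [if_pos hc, if_pos hc.symm, Nat.cast_mul]
      · rw [if_neg hc, if_neg fun h => hc h.symm, mul_zero]
    · intro u hu hu1
      refine if_neg fun h => hu1 ?_
      obtain ⟨hu', hu''⟩ := c.mem_cw.1 hu
      obtain ⟨g, hg⟩ := isConj_iff.1 h.symm
      have ho : orderOf (y * u) = 2 := by
        rw [← hg, show g * x * g⁻¹ = MulAut.conj g x from rfl, MulEquiv.orderOf_eq, hx2]
      exact mul_eq_left.1 (IsPPart.eq Nat.prime_two
        (isPPart_mul hu''.symm (orderOf_syl ⟨y, hy⟩) (c.odd_order hu'))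
        (isPPart_self Nat.prime_two ⟨1, by rw [ho, pow_one]⟩)).symm
    · exact fun h => absurd (c.mem_cw.2 ⟨one_mem W, by simp⟩) h
  rw [← key, Finset.sum_comm, ← Finset.sum_filter_add_sum_filter_not Finset.univ
    (· ∈ principalBlock M G) (fun χ : IrrCharacter G => ∑ u ∈ c.cw y, (χ : G → ℂ) (y * u) * conj ((χ : G → ℂ) x)),
    Finset.sum_eq_zero (s := Finset.univ.filter fun χ : IrrCharacter G => ¬ χ ∈ principalBlock M G) fun χ hχ => ?_,
    add_zero, Finset.mul_sum]
  · refine Finset.sum_congr rfl fun χ hχ => ?_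
    rw [← Finset.sum_mul, ← c.sum_regular_centralizer hy hy1 fun u => (χ : G → ℂ) (y * u),
      Finset.sum_congr rfl fun w hw =>
        apply_mul_of_mem_principal hM c.frob hy hy1 (Finset.mem_filter.1 hχ).2 (Finset.mem_filter.1 hw).2,
      c.sum_regular_centralizer hy hy1 fun _ => (χ : G → ℂ) y, Finset.sum_const, nsmul_eq_mul, mul_assoc]
  · rw [← Finset.sum_mul, ← c.sum_regular_centralizer hy hy1 fun u => (χ : G → ℂ) (y * u),
      sum_section_eq_zero hM c.frob hy hy1 (Finset.mem_filter.1 hχ).2, zero_mul]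

end

end Cover

end Cfsg.Lib.Blocks.PrimeInertial
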