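import Mathlib
import Cfsg.Agent.Blocks.PrimeInertial.Identity

/-!
# The odd subgroup lies in the kernel of the principal block
-/

set_option autoImplicit false
set_option linter.unusedSectionVars false

namespace Cfsg.Lib.Blocks.PrimeInertial

open Cfsg.Lib.Chars Cfsg.Lib.Blocks
open scoped _root_.Classical ComplexConjugate

universe u

variable {G : Type u} [Group G] [Fintype G] [Fact (Nat.Prime 2)] {M : Ideal AlgInt}
  {P : Sylow 2 G} {W : Subgroup G}

lemma odd_frobIndex (hab : ∀ a ∈ (P : Subgroup G), ∀ b ∈ (P : Subgroup G), a * b = b * a) :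
    Odd (frobIndex P) := by
  rw [← Nat.not_even_iff_odd, even_iff_two_dvd]
  intro h
  have hPC : (P : Subgroup G) ≤ Subgroup.centralizer ((P : Subgroup G) : Set G) := fun a ha =>
    Subgroup.mem_centralizer_iff.2 fun b hb => hab b hb a ha
  refine P.not_dvd_index (h.trans ?_)
  rw [frobIndex, ← Subgroup.relIndex_mul_index (hPC.trans (Subgroup.centralizer_le_normalizer _)),
    ← Subgroup.relIndex_mul_relIndex _ _ _ hPC (Subgroup.centralizer_le_normalizer _), mul_assoc,
    mul_left_comm]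
  exact dvd_mul_right _ _

/-- The principal block takes no value zero at an element of `P`. -/
lemma apply_ne_zero (hM : IsPModular 2 M) (h : FrobeniusNormalizer P) {y : G} (hy : y ∈ (P : Subgroup G))
    {χ : IrrCharacter G} (hχ : χ ∈ principalBlock M G) : (χ : G → ℂ) y ≠ 0 := by
  intro h0
  have hidx : ¬ 2 ∣ (Subgroup.centralizer ({y} : Set G)).index := fun hd => by
    have hle : (P : Subgroup G) ≤ Subgroup.centralizer ({y} : Set G) := fun z hz =>
      Subgroup.mem_centralizer_singleton_iff.2 (h.comm z hz y hy)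
    exact P.not_dvd_index (hd.trans ⟨_, (Subgroup.relIndex_mul_index hle).symm.trans (mul_comm _ _)⟩)
  have hs : SameBlock M (fun _ : G => (1 : ℂ)) (χ : G → ℂ) := hχ
  have h1 := hs y
  rw [show centralChar (fun _ : G => (1 : ℂ)) y =
      ((Subgroup.centralizer ({y} : Set G)).index : ℂ) by simp [centralChar],
    show centralChar (χ : G → ℂ) y = 0 by simp [centralChar, h0],
    sub_zero, memLocalIdeal_iff_small hM (isAlgebraic_nat _)] at h1
  exact hidx ((small_natCast_iff hM _).1 h1)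

namespace Cover

variable (c : Cover P W) {x : G} (hx : x ∈ (P : Subgroup G)) (hx2 : orderOf x = 2)
include c hx hx2

lemma inf_normalizer : (W ⊔ (P : Subgroup G)) ⊓ Subgroup.normalizer ((P : Subgroup G) : Set G) =
    Subgroup.centralizer ((P : Subgroup G) : Set G) := by
  refine le_antisymm (fun g hg => ?_) (le_inf (fun g hg => c.centralizer_le hx (c.x_ne_one hx hx2)
    (Subgroup.mem_centralizer_iff.1 hg x hx).symm) (Subgroup.centralizer_le_normalizer _))
  obtain ⟨hgV, hgN⟩ := Subgroup.mem_inf.1 hg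
  obtain ⟨y, hy, w, hw, rfl⟩ := c.exists_split hgV
  have hwN : w ∈ Subgroup.normalizer ((P : Subgroup G) : Set G) := by
    simpa [mul_assoc] using mul_mem (Subgroup.le_normalizer (inv_mem hy)) hgN
  refine mul_mem (Subgroup.mem_centralizer_iff.2 fun a ha => c.frob.comm a ha y hy)
    (Subgroup.mem_centralizer_iff.2 fun a ha => ?_)
  have h1 : w * a * w⁻¹ * a⁻¹ ∈ W := by
    rw [show w * a * w⁻¹ * a⁻¹ = w * (a * w⁻¹ * a⁻¹) by group]
    exact mul_mem hw (c.conj_mem ha (inv_mem hw))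
  have h2 := c.eq_one_of_mem_both h1 (mul_mem ((Subgroup.mem_normalizer_iff.1 hwN a).1 ha) (inv_mem ha))
  rw [mul_inv_eq_one, mul_inv_eq_iff_eq_mul] at h2
  exact h2.symm

/-- The local subgroup: its order, and its singular elements. -/
lemma local_group :
    Nat.card (W ⊔ Subgroup.normalizer ((P : Subgroup G) : Set G) : Subgroup G) =
      Nat.card (W ⊔ (P : Subgroup G) : Subgroup G) * frobIndex P ∧
    ∀ g ∈ W ⊔ Subgroup.normalizer ((P : Subgroup G) : Set G), 2 ∣ orderOf g → g ∈ W ⊔ (P : Subgroup G) := by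
  set N := Subgroup.normalizer ((P : Subgroup G) : Set G)
  set V := W ⊔ (P : Subgroup G)
  set H := W ⊔ N with hH
  have hVH : V ≤ H := sup_le le_sup_left (Subgroup.le_normalizer.trans le_sup_right)
  have hNH : N ≤ H := le_sup_right
  have hnorm : ∀ n ∈ N, ∀ v ∈ V, n * v * n⁻¹ ∈ V := fun n hn v hv => by
    obtain ⟨y, hy, w, hw, rfl⟩ := c.exists_split hv
    rw [show n * (y * w) * n⁻¹ = n * y * n⁻¹ * (n * w * n⁻¹) by group]
    exact mul_mem (Subgroup.mem_sup_right ((Subgroup.mem_normalizer_iff.1 hn y).1 hy))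
      (Subgroup.mem_sup_left ((Subgroup.mem_normalizer_iff.1 (c.norm hn) w).1 hw))
  haveI hK : (V.subgroupOf H).Normal := by
    refine Subgroup.normal_subgroupOf_of_le_normalizer (sup_le (le_sup_left.trans Subgroup.le_normalizer) fun n hn => ?_)
    refine Subgroup.mem_normalizer_iff.2 fun v => ⟨hnorm n hn v, fun hv => ?_⟩
    simpa [mul_assoc] using hnorm n⁻¹ (inv_mem hn) _ hv
  have hsup : N.subgroupOf H ⊔ V.subgroupOf H = ⊤ := by
    rw [← Subgroup.subgroupOf_sup hNH hVH, Subgroup.subgroupOf_eq_top]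
    exact sup_le (le_sup_left.trans le_sup_right) le_sup_left
  have hidx : (V.subgroupOf H).index = frobIndex P := by
    rw [← Subgroup.relIndex_top_right, ← hsup, Subgroup.relIndex_sup_right,
      Subgroup.relIndex_subgroupOf hNH, ← Subgroup.inf_relIndex_right, c.inf_normalizer hx hx2]
    rfl
  refine ⟨?_, fun g hg h2 => ?_⟩
  · rw [← hidx, ← Nat.card_congr (Subgroup.subgroupOfEquivOfLe hVH).toEquiv, Subgroup.card_mul_index]
  · obtain ⟨j, hj⟩ := exists_involution_pow h2
    have hmem : g ^ j ∈ H := Subgroup.pow_mem _ hg j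
    have h3 := Subgroup.pow_index_mem (V.subgroupOf H) ⟨g ^ j, hmem⟩
    rw [hidx, Subgroup.mem_subgroupOf, SubmonoidClass.coe_pow] at h3
    obtain ⟨k, hk⟩ := odd_frobIndex (P := P) c.frob.comm
    have hsq : (g ^ j) ^ 2 = 1 := by rw [← hj, pow_orderOf_eq_one]
    change (g ^ j) ^ frobIndex P ∈ V at h3
    rw [hk, pow_succ, pow_mul, hsq, one_pow, one_mul] at h3
    refine c.mem_of_part h3 (fun h => by rw [h, orderOf_one] at hj; omega) ⟨1, by rw [hj, pow_one]⟩ ?_
    exact (Commute.self_pow g j).eq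

lemma column_sup (hM : IsPModular 2 M) :
    ∑ χ ∈ Finset.univ.filter (· ∈ principalBlock M G),
      (mult (W ⊔ (P : Subgroup G)) χ : ℂ) * conj ((χ : G → ℂ) x) = frobIndex P ∧
    ∑ χ ∈ Finset.univ.filter (· ∈ principalBlock M G),
      (mult (W ⊔ Subgroup.normalizer ((P : Subgroup G) : Set G)) χ : ℂ) * conj ((χ : G → ℂ) x) = 1 := by
  set B := Finset.univ.filter (· ∈ principalBlock M G) with hBdef
  have hB : IsPBlock M (principalBlock M G) := isPBlock_blockOf (principal G)
  set K : G → ℂ := fun g => ∑ χ ∈ B, (χ : G → ℂ) g * conj ((χ : G → ℂ) x)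
  have hreg : ∀ g, ¬ 2 ∣ orderOf g → K g = 0 := fun g hg =>
    block_orthogonality_regular hM hB hg (by rw [hx2])
  have hmult : ∀ H : Subgroup G, ∑ g ∈ Finset.univ.filter (· ∈ H), K g =
      (Nat.card H : ℂ) * ∑ χ ∈ B, (mult H χ : ℂ) * conj ((χ : G → ℂ) x) := fun H => by
    rw [Finset.sum_comm, Finset.mul_sum]
    refine Finset.sum_congr rfl fun χ _ => ?_
    rw [← Finset.sum_mul, mult_spec, mul_assoc]
  set V := W ⊔ (P : Subgroup G)
  have hV : ∑ g ∈ Finset.univ.filter (· ∈ V), K g = (Nat.card V : ℂ) * frobIndex P := by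
    rw [c.sum_sup, c.card_sup, Nat.cast_mul, show (Nat.card W : ℂ) * (Nat.card (P : Subgroup G) : ℂ) * (frobIndex P : ℂ) =
      ∑ y ∈ Finset.univ.filter (· ∈ (P : Subgroup G)),
        if IsConj x y then (Nat.card W : ℂ) * (Nat.card (P : Subgroup G) : ℂ) else 0 by
      rw [← Finset.sum_filter, Finset.filter_filter, Finset.sum_const, c.card_class hx hx2, nsmul_eq_mul]
      ring]
    refine Finset.sum_congr rfl fun y hy => ?_
    have hy' := (Finset.mem_filter.1 hy).2
    by_cases hy1 : y = 1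
    · subst hy1
      rw [if_neg fun h => c.x_ne_one hx hx2 (isConj_one_left.1 h)]
      exact Finset.sum_eq_zero fun w hw => hreg _ (by rw [one_mul]; exact c.odd_order (Finset.mem_filter.1 hw).2)
    · simp only [K]
      rw [Finset.sum_comm, Finset.sum_congr rfl fun χ hχ => by
        rw [← Finset.sum_mul, c.sum_coset_principal hM hy' hy1 (Finset.mem_filter.1 hχ).2, mul_assoc],
        ← Finset.mul_sum, c.sum_principal hx hx2 hM hy' hy1]
      split_ifs <;> simp
  refine ⟨mul_left_cancel₀ (Nat.cast_ne_zero.2 Nat.card_pos.ne') ((hmult V).symm.trans hV), ?_⟩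
  obtain ⟨hcard, hsing⟩ := c.local_group hx hx2
  refine mul_left_cancel₀ (Nat.cast_ne_zero.2
    (Nat.card_pos (α := (W ⊔ Subgroup.normalizer ((P : Subgroup G) : Set G) : Subgroup G))).ne') ?_
  rw [← hmult, ← Finset.sum_subset (s₁ := Finset.univ.filter (· ∈ V)) (fun g hg => ?_) (fun g hg hg' => ?_), hV,
    hcard, Nat.cast_mul, mul_one]
  · exact Finset.mem_filter.2 ⟨Finset.mem_univ _,
      (sup_le le_sup_left (Subgroup.le_normalizer.trans le_sup_right) : V ≤ _) (Finset.mem_filter.1 hg).2⟩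
  · exact hreg g fun h2 => hg' (Finset.mem_filter.2 ⟨Finset.mem_univ _, hsing g (Finset.mem_filter.1 hg).2 h2⟩)

lemma real_value (χ : IrrCharacter G) : (χ : G → ℂ) x = ((((χ : G → ℂ) x).re : ℝ) : ℂ) := by
  refine (Complex.conj_eq_iff_re.1 ?_).symm
  rw [← IsCharacter.conj_inv (isCharacter_of_irr χ.2)]
  rw [show x⁻¹ = x from inv_eq_of_mul_eq_one_right (a := x) (b := x)
    (by rw [← pow_two, ← hx2, pow_orderOf_eq_one])]

/-- The identity from the count of pairs. -/
lemma identity (hM : IsPModular 2 M) :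
    (Nat.card G : ℂ) * ∑ χ ∈ Finset.univ.filter (· ∈ principalBlock M G),
      (χ : G → ℂ) x * (χ : G → ℂ) x *
        ((Nat.card (P : Subgroup G) : ℂ) * mult (W ⊔ (P : Subgroup G)) χ - mult W χ) / (χ : G → ℂ) 1 =
    (Nat.card W : ℂ) * (Nat.card (P : Subgroup G) : ℂ) ^ 2 * ((frobIndex P : ℂ) ^ 2 - frobIndex P) := by
  set V := W ⊔ (P : Subgroup G) with hV
  set q : ℂ := (Nat.card (P : Subgroup G) : ℂ)
  set w : ℂ := (Nat.card W : ℂ)
  set θ : ℂ := ((c.cw x).card : ℂ)
  set X : ℂ := (Nat.card {y : G // IsConj x y} : ℂ)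
  have hXθ : X * θ * q = Nat.card G := by
    rw [mul_assoc, ← Nat.cast_mul, ← c.card_centralizer hx (c.x_ne_one hx hx2), ← Nat.cast_mul,
      card_isConj_mul]
  have hD : ∀ χ : IrrCharacter G,
      ∑ g ∈ Finset.univ.filter (fun g => g ∈ V ∧ g ∉ W), conj ((χ : G → ℂ) g) =
        if χ ∈ principalBlock M G then w * (q * mult V χ - mult W χ) else 0 := by
    intro χ
    rw [← map_sum]
    split_ifs with hχ
    · have h := Finset.sum_filter_add_sum_filter_not (Finset.univ.filter (· ∈ V)) (· ∈ W) fun g => (χ : G → ℂ) g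
      rw [Finset.filter_filter, Finset.filter_filter,
        Finset.filter_congr (q := (· ∈ W)) fun g _ => and_iff_right_of_imp fun hg => Subgroup.mem_sup_left hg,
        mult_spec, mult_spec] at h
      rw [eq_sub_of_add_eq' h, c.card_sup, Nat.cast_mul]
      simp only [map_sub, map_mul, map_natCast, w, q]
      ring
    · have hz : ∑ g ∈ Finset.univ.filter (fun g => g ∈ V ∧ g ∉ W), (χ : G → ℂ) g = 0 := by
        rw [← Finset.filter_filter, Finset.sum_filter, c.sum_sup]
        refine Finset.sum_eq_zero fun y hy => ?_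
        have hy' := (Finset.mem_filter.1 hy).2
        by_cases hy1 : y = 1
        · subst hy1
          exact Finset.sum_eq_zero fun u hu => if_neg (not_not.2 (by simpa using (Finset.mem_filter.1 hu).2))
        · rw [Finset.sum_congr rfl (g := fun u => (χ : G → ℂ) (y * u)) fun u hu =>
            if_pos (show y * u ∉ W from fun h => hy1 ((c.mul_mem_iff hy' (Finset.mem_filter.1 hu).2).1 h))]
          exact c.sum_coset_outside hM hy' hy1 hχ
      rw [hz, map_zero]
  have hT := c.pair_count hx hx2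
  simp only [class_mult_formula, ← Finset.mul_sum] at hT
  rw [Finset.sum_comm, Finset.sum_congr rfl fun (χ : IrrCharacter G) _ => show
      ∑ g ∈ Finset.univ.filter (fun g => g ∈ V ∧ g ∉ W),
        (χ : G → ℂ) x * (χ : G → ℂ) x * conj ((χ : G → ℂ) g) / (χ : G → ℂ) 1 =
      if χ ∈ principalBlock M G then
        w * ((χ : G → ℂ) x * (χ : G → ℂ) x * (q * mult V χ - mult W χ) / (χ : G → ℂ) 1) else 0 by
    rw [← Finset.sum_div, ← Finset.mul_sum, hD]
    split_ifs <;> ring,
    ← Finset.sum_filter, ← Finset.mul_sum] at hT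
  set S := ∑ χ ∈ Finset.univ.filter (· ∈ principalBlock M G),
    (χ : G → ℂ) x * (χ : G → ℂ) x * (q * mult V χ - mult W χ) / (χ : G → ℂ) 1
  change θ ^ 2 * (X * X / (Nat.card G : ℂ) * (w * S)) = w ^ 2 * _ at hT
  have hG : (Nat.card G : ℂ) ≠ 0 := Nat.cast_ne_zero.2 Nat.card_pos.ne'
  have hw : w ≠ 0 := Nat.cast_ne_zero.2 Nat.card_pos.ne'
  refine mul_left_cancel₀ hw ?_
  calc w * ((Nat.card G : ℂ) * S) = (Nat.card G : ℂ) * (Nat.card G : ℂ) / (Nat.card G : ℂ) * (w * S) := by
        rw [mul_div_assoc, div_self hG, mul_one]; ring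
    _ = q ^ 2 * (θ ^ 2 * (X * X / (Nat.card G : ℂ) * (w * S))) := by
        nth_rewrite 1 [← hXθ]
        nth_rewrite 1 [← hXθ]
        ring
    _ = _ := by rw [hT]; ring

end Cover

/-- **The kernel theorem.** -/
theorem Cover.apply_eq (c : Cover P W) (hM : IsPModular 2 M) (hP : Nat.card (P : Subgroup G) ≠ 1)
    {χ₀ : IrrCharacter G} (hχ₀ : χ₀ ∈ principalBlock M G) {g : G} (hg : g ∈ W) :
    (χ₀ : G → ℂ) g = (χ₀ : G → ℂ) 1 := by
  obtain ⟨x, hx, hx2⟩ : ∃ x ∈ (P : Subgroup G), orderOf x = 2 := by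
    obtain ⟨k, hk⟩ := IsPGroup.iff_card.1 P.2
    obtain ⟨x, hx⟩ := exists_prime_orderOf_dvd_card' (G := (P : Subgroup G)) 2
      (hk ▸ dvd_pow_self 2 fun h => hP (by rw [hk, h, pow_zero]))
    exact ⟨x, x.2, by rw [Subgroup.orderOf_coe, hx]⟩
  set B := Finset.univ.filter (· ∈ principalBlock M G) with hBdef
  let d : IrrCharacter G → ℝ := fun χ => ((χ : G → ℂ) x).re
  have hd : ∀ χ : IrrCharacter G, (χ : G → ℂ) x = (d χ : ℂ) := c.real_value hx hx2
  let e : IrrCharacter G → ℝ := fun χ => (deg (χ : G → ℂ) : ℝ)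
  have he : ∀ χ : IrrCharacter G, (χ : G → ℂ) 1 = (e χ : ℂ) := fun χ => by
    rw [irr_apply_one_eq_deg, Complex.ofReal_natCast]
  have he0 : ∀ χ, 0 < e χ := fun χ => Nat.cast_pos.2 (deg_irr_pos χ)
  set V := W ⊔ (P : Subgroup G) with hV
  set H := W ⊔ Subgroup.normalizer ((P : Subgroup G) : Set G) with hH
  let S : IrrCharacter G → ℝ := fun χ => (mult V χ : ℝ)
  let S0 : IrrCharacter G → ℝ := fun χ => (mult H χ : ℝ)
  let R : IrrCharacter G → ℝ := fun χ => (mult W χ : ℝ)
  set q : ℝ := (Nat.card (P : Subgroup G) : ℝ)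
  set w : ℝ := (Nat.card W : ℝ)
  set r : ℝ := (frobIndex P : ℝ)
  set n : ℝ := (Nat.card G : ℝ) / (w * q * r) with hn
  have hq0 : 0 < q := Nat.cast_pos.2 Nat.card_pos
  have hw0 : 0 < w := Nat.cast_pos.2 Nat.card_pos
  have hr0 : 0 < r := Nat.cast_pos.2 (frobIndex_pos P)
  have hG0 : (0 : ℝ) < Nat.card G := Nat.cast_pos.2 Nat.card_pos
  have hn0 : 0 < n := by positivity
  obtain ⟨hcard, -⟩ := c.local_group hx hx2
  have hVH : V ≤ H := sup_le le_sup_left (Subgroup.le_normalizer.trans le_sup_right)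
  -- the columns
  have h1 : ∑ χ ∈ B, S χ * d χ = r ∧ ∑ χ ∈ B, S0 χ * d χ = 1 := by
    obtain ⟨h1, h2⟩ := c.column_sup hx hx2 hM
    rw [Finset.sum_congr rfl fun (χ : IrrCharacter G) _ => show (mult V χ : ℂ) * conj ((χ : G → ℂ) x) = ((S χ * d χ : ℝ) : ℂ) by
      rw [hd, Complex.conj_ofReal]; push_cast; rfl, ← Complex.ofReal_sum] at h1
    rw [Finset.sum_congr rfl fun (χ : IrrCharacter G) _ => show (mult H χ : ℂ) * conj ((χ : G → ℂ) x) = ((S0 χ * d χ : ℝ) : ℂ) by
      rw [hd, Complex.conj_ofReal]; push_cast; rfl, ← Complex.ofReal_sum] at h2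
    exact ⟨Complex.ofReal_injective (h1.trans (Complex.ofReal_natCast _).symm),
      Complex.ofReal_injective (h2.trans Complex.ofReal_one.symm)⟩
  have hd2 : ∑ χ ∈ B, d χ * d χ = q := by
    have h := c.sum_principal hx hx2 hM hx (c.x_ne_one hx hx2)
    rw [if_pos (IsConj.refl x), Finset.sum_congr rfl fun (χ : IrrCharacter G) _ =>
      show (χ : G → ℂ) x * conj ((χ : G → ℂ) x) = ((d χ * d χ : ℝ) : ℂ) by
        rw [hd, Complex.conj_ofReal]; push_cast; rfl, ← Complex.ofReal_sum] at h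
    exact Complex.ofReal_injective (h.trans (Complex.ofReal_natCast _).symm)
  have hid : ∑ χ ∈ B, d χ * d χ * (q * S χ - R χ) / e χ = q * (r - 1) / n := by
    have h := c.identity hx hx2 hM
    rw [Finset.sum_congr rfl fun (χ : IrrCharacter G) _ => show (χ : G → ℂ) x * (χ : G → ℂ) x *
        ((Nat.card (P : Subgroup G) : ℂ) * mult V χ - mult W χ) / (χ : G → ℂ) 1 =
        ((d χ * d χ * (q * S χ - R χ) / e χ : ℝ) : ℂ) by rw [hd, he]; simp [q, S, R],
      ← Complex.ofReal_sum] at h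
    have h' : (Nat.card G : ℝ) * ∑ χ ∈ B, d χ * d χ * (q * S χ - R χ) / e χ = w * q ^ 2 * (r ^ 2 - r) := by
      refine Complex.ofReal_injective ?_
      simp only [Complex.ofReal_mul, Complex.ofReal_pow, Complex.ofReal_sub, q, w, r, Complex.ofReal_natCast] at h ⊢
      exact h
    rw [hn, eq_div_iff (by positivity), mul_div_assoc', div_eq_iff (by positivity)]
    linear_combination h'
  -- the degrees
  have hdeg : ∑ χ : IrrCharacter G, (S χ - S0 χ) * e χ = n * (r - 1) := by
    have hA := sum_mult_deg V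
    have hA0 := sum_mult_deg H
    rw [Finset.sum_congr rfl fun (χ : IrrCharacter G) _ => show (χ : G → ℂ) 1 * (mult V χ : ℂ) = ((S χ * e χ : ℝ) : ℂ) by
        rw [he]; simp only [S, Complex.ofReal_mul, Complex.ofReal_natCast]; ring, ← Complex.ofReal_sum, hV, c.card_sup] at hA
    rw [Finset.sum_congr rfl fun (χ : IrrCharacter G) _ => show (χ : G → ℂ) 1 * (mult H χ : ℂ) = ((S0 χ * e χ : ℝ) : ℂ) by
        rw [he]; simp only [S0, Complex.ofReal_mul, Complex.ofReal_natCast]; ring, ← Complex.ofReal_sum, hcard, c.card_sup] at hA0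
    have hA' : ∑ χ : IrrCharacter G, S χ * e χ = (Nat.card G : ℝ) / (w * q) :=
      Complex.ofReal_injective (hA.trans (by simp [w, q]))
    have hA0' : ∑ χ : IrrCharacter G, S0 χ * e χ = (Nat.card G : ℝ) / (w * q * r) :=
      Complex.ofReal_injective (hA0.trans (by simp [w, q, r]))
    simp only [sub_mul, Finset.sum_sub_distrib]
    rw [hA', hA0', hn]
    field_simp
  have hS0 : ∀ χ, S0 χ ≤ S χ := fun χ => Nat.cast_le.2 (mult_mono hVH χ)
  have hbound : ∀ χ ∈ B, (if χ = principal G then (1 : ℝ) else 0) +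
      (2 / n * ((S χ - S0 χ) * d χ) - 1 / n ^ 2 * ((S χ - S0 χ) * e χ)) ≤ d χ * d χ * S χ / e χ := by
    intro χ _
    have hsq : 0 ≤ (S χ - S0 χ) * (d χ - e χ / n) ^ 2 / e χ :=
      div_nonneg (mul_nonneg (sub_nonneg.2 (hS0 χ)) (sq_nonneg _)) (he0 χ).le
    have heq : (S χ - S0 χ) * (d χ - e χ / n) ^ 2 / e χ = d χ * d χ * S χ / e χ - d χ * d χ * S0 χ / e χ -
        (2 / n * ((S χ - S0 χ) * d χ) - 1 / n ^ 2 * ((S χ - S0 χ) * e χ)) := by
      have := (he0 χ).ne'
      field_simp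
      ring
    have hone : (if χ = principal G then (1 : ℝ) else 0) ≤ d χ * d χ * S0 χ / e χ := by
      split_ifs with h
      · subst h
        have e1 : d (principal G) = 1 := Complex.one_re
        have e3 : e (principal G) = 1 := by
          have h3 := he (principal G)
          exact (Complex.ofReal_injective (Complex.ofReal_one.trans h3)).symm
        rw [e1, e3, show S0 (principal G) = 1 by simp only [S0, mult_principal, Nat.cast_one]]
        norm_num
      · exact div_nonneg (mul_nonneg (mul_self_nonneg _) (Nat.cast_nonneg _)) (he0 χ).le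
    linarith
  have hsum := Finset.sum_le_sum hbound
  rw [Finset.sum_add_distrib, Finset.sum_sub_distrib, ← Finset.mul_sum, ← Finset.mul_sum,
    Finset.sum_ite_eq' B (principal G) fun _ => (1 : ℝ),
    if_pos (show principal G ∈ B from
      Finset.mem_filter.2 ⟨Finset.mem_univ _, mem_blockOf_self hM (principal G)⟩),
    Finset.sum_congr rfl fun χ _ => sub_mul (S χ) (S0 χ) (d χ), Finset.sum_sub_distrib, h1.1, h1.2] at hsum
  have hle : ∑ χ ∈ B, (S χ - S0 χ) * e χ ≤ n * (r - 1) := by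
    rw [← hdeg]
    exact Finset.sum_le_sum_of_subset_of_nonneg (Finset.subset_univ _) fun χ _ _ =>
      mul_nonneg (sub_nonneg.2 (hS0 χ)) (he0 χ).le
  have hA : 1 + (r - 1) / n ≤ ∑ χ ∈ B, d χ * d χ * S χ / e χ := by
    refine le_trans ?_ hsum
    have : 1 / n ^ 2 * (∑ χ ∈ B, (S χ - S0 χ) * e χ) ≤ 1 / n ^ 2 * (n * (r - 1)) :=
      mul_le_mul_of_nonneg_left hle (by positivity)
    have h2 : 1 / n ^ 2 * (n * (r - 1)) = (r - 1) / n := by field_simp
    have h3 : 2 / n * (r - 1) = 2 * ((r - 1) / n) := by ring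
    linarith
  have hR : q ≤ ∑ χ ∈ B, d χ * d χ * R χ / e χ := by
    have h2 : ∑ χ ∈ B, d χ * d χ * (q * S χ - R χ) / e χ =
        q * ∑ χ ∈ B, d χ * d χ * S χ / e χ - ∑ χ ∈ B, d χ * d χ * R χ / e χ := by
      rw [Finset.mul_sum, ← Finset.sum_sub_distrib]
      exact Finset.sum_congr rfl fun χ _ => by ring
    rw [hid] at h2
    have h3 := mul_le_mul_of_nonneg_left hA hq0.le
    have h4 : q * (1 + (r - 1) / n) = q + q * (r - 1) / n := by ring
    linarith
  have hterm : ∀ χ ∈ B, d χ * d χ * R χ / e χ ≤ d χ * d χ := fun χ _ => by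
    rw [div_le_iff₀ (he0 χ)]
    exact mul_le_mul_of_nonneg_left (Nat.cast_le.2 (mult_le_deg W χ).1) (mul_self_nonneg _)
  have heq := (Finset.sum_eq_sum_iff_of_le hterm).1
    (le_antisymm (Finset.sum_le_sum hterm) (hd2 ▸ hR)) χ₀ (Finset.mem_filter.2 ⟨Finset.mem_univ _, hχ₀⟩)
  have hd0 : d χ₀ * d χ₀ ≠ 0 := mul_self_ne_zero.2 fun h0 =>
    apply_ne_zero hM c.frob hx hχ₀ (by rw [hd, h0, Complex.ofReal_zero])
  rw [div_eq_iff (he0 χ₀).ne'] at heq
  exact (mult_le_deg W χ₀).2 (Nat.cast_injective (R := ℝ) (mul_left_cancel₀ hd0 heq)) g hg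

end Cfsg.Lib.Blocks.PrimeInertial
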