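import Cfsg.Agent.Blocks.PrimeInertial.Core
import Cfsg.Agent.Blocks.SixteenNine.Rank

/-!
# The number of characters in a principal block with a freely acting automizer
-/

set_option autoImplicit false
set_option linter.unusedSectionVars false
set_option linter.style.haveILetI false

namespace Cfsg.Lib.Blocks.PrimeInertial

open Cfsg.Lib.Chars Cfsg.Lib.Blocks Cfsg.Lib.Blocks.Star Cfsg.Lib.Blocks.PrincipalStar
  Cfsg.Lib.Blocks.SixteenNine
open scoped _root_.Classical ComplexConjugate

universe u

local notation "C⟨" P "⟩" => Subgroup.centralizer (SetLike.coe P)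

variable {G : Type u} [Group G] [Fintype G] [Fact (Nat.Prime 2)] {M : Ideal AlgInt}

lemma centralizer_mul_frobIndex (S : Sylow 2 G) :
    Nat.card (Subgroup.centralizer ((S : Subgroup G) : Set G)) * frobIndex S =
      Nat.card (Subgroup.normalizer ((S : Subgroup G) : Set G)) := by
  rw [frobIndex, Subgroup.relIndex, ← Nat.card_congr
    (Subgroup.subgroupOfEquivOfLe (Subgroup.centralizer_le_normalizer ((S : Subgroup G) : Set G))).toEquiv,
    Subgroup.card_mul_index]

/-- The trace of the identity: `e k + |Z| = e |Z| l + |S|`. -/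
theorem count_formula (hM : IsPModular 2 M) (S : Sylow 2 G)
    (hab : ∀ a ∈ (S : Subgroup G), ∀ b ∈ (S : Subgroup G), a * b = b * a)
    (Z : Subgroup G) (hZ : Z ≤ (S : Subgroup G)) (hZc : Z ≤ Subgroup.center G)
    (hfree : ∀ y ∈ (S : Subgroup G), y ∉ Z → ∀ t ∈ Subgroup.normalizer ((S : Subgroup G) : Set G),
      t * y = y * t → t ∈ Subgroup.centralizer ((S : Subgroup G) : Set G)) :
    frobIndex S * Nat.card (principalBlock M G) + Nat.card Z =
      frobIndex S * Nat.card Z * blockRank 2 (principalBlock M G) + Nat.card (S : Subgroup G) := by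
  set N := Subgroup.normalizer ((S : Subgroup G) : Set G) with hN
  set l := blockRank 2 (principalBlock M G) with hl
  set B := Finset.univ.filter (· ∈ principalBlock M G) with hB
  have he := centralizer_mul_frobIndex S
  have hterm : ∀ y : (S : Subgroup G),
      (frobIndex S : ℂ) * ((1 : ℂ) * wt (S : Subgroup G) (y : G) * (blockRank 2 (pb M (y : G)) : ℂ)) =
        1 + if (y : G) ∈ Z then (frobIndex S : ℂ) * l - 1 else 0 := by
    intro y
    split_ifs with hy
    · have htop : C⟨Subgroup.zpowers (y : G)⟩ = ⊤ := by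
        rw [centralizer_zpowers]
        exact Subgroup.centralizer_eq_top_iff_subset.2 (Set.singleton_subset_iff.2 (hZc hy))
      have hr : blockRank 2 (pb M (y : G)) = l :=
        (rank_top hM (isMaximal_principal hM S).1 (H := C⟨Subgroup.zpowers (y : G)⟩) htop
          (isBelow_pb S hM hab y.2).1 (isBelow_pb S hM hab y.2).2).1
      rw [hr, wt, htop, inf_top_eq, div_self (Nat.cast_ne_zero.2 Nat.card_pos.ne')]
      ring
    · have heq : N ⊓ C⟨Subgroup.zpowers (y : G)⟩ = C⟨(S : Subgroup G)⟩ := by
        ext t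
        rw [Subgroup.mem_inf, centralizer_zpowers, Subgroup.mem_centralizer_singleton_iff]
        exact ⟨fun ht => hfree y y.2 hy t ht.1 ht.2, fun ht => ⟨Subgroup.centralizer_le_normalizer _ ht,
          (Subgroup.mem_centralizer_iff.1 ht y y.2).symm⟩⟩
      rw [show blockRank 2 (pb M (y : G)) = 1 from blockRank_principal_eq_one hM
        (complement_of_free S hab y.2 (hfree y y.2 hy)), wt, heq, ← he, Nat.cast_mul, Nat.cast_one, mul_one, one_mul,
        div_mul_eq_div_div, div_self (Nat.cast_ne_zero.2 Nat.card_pos.ne'), add_zero, mul_one_div,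
        div_self (Nat.cast_ne_zero.2 (frobIndex_pos S).ne')]
  have h := sum_mat_self (S := S) hM hab fun _ => (1 : ℂ)
  rw [Finset.sum_congr rfl fun χ hχ => (mat_one hM hab (Finset.mem_filter.1 hχ).2
      (Finset.mem_filter.1 hχ).2).trans (if_pos rfl), Finset.sum_const, nsmul_one] at h
  have hk : (B.card : ℂ) = (Nat.card (principalBlock M G) : ℂ) := by
    rw [hB, Nat.card_eq_fintype_card, ← Set.toFinset_card]
    congr 2
    ext χ
    simp
  have hZn : (Finset.univ.filter fun y : (S : Subgroup G) => (y : G) ∈ Z).card = Nat.card Z := by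
    rw [← Fintype.card_subtype, ← Nat.card_eq_fintype_card]
    exact Nat.card_congr ⟨fun y => ⟨y.1, y.2⟩, fun w => ⟨⟨w, hZ w.2⟩, w.2⟩, fun _ => rfl, fun _ => rfl⟩
  have h' := congrArg (fun z => (frobIndex S : ℂ) * z) h
  simp only [Finset.mul_sum] at h'
  rw [Finset.sum_congr rfl fun y _ => hterm y, Finset.sum_add_distrib, ← Finset.sum_filter,
    Finset.sum_const, Finset.sum_const, hZn, Finset.card_univ, ← Nat.card_eq_fintype_card, nsmul_one,
    nsmul_eq_mul, hk] at h'
  have : ((frobIndex S * Nat.card (principalBlock M G) + Nat.card Z : ℕ) : ℂ) =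
      ((frobIndex S * Nat.card Z * l + Nat.card (S : Subgroup G) : ℕ) : ℂ) := by
    push_cast
    linear_combination h'
  exact_mod_cast this

end Cfsg.Lib.Blocks.PrimeInertial
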