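import Cfsg.Agent.Blocks.PrimeInertial.Formula
import Cfsg.Agent.PGroups.HomocyclicRankTwo
import Cfsg.Agent.Blocks.KleinFour
import Cfsg.Agent.S0949
import Cfsg.Agent.Blocks.NormalDefectHeight
import Cfsg.Agent.Blocks.Quotient

/-!
# Orbits of the automizer on the Sylow subgroup, and the rank two case
-/

set_option autoImplicit false
set_option linter.unusedSectionVars false
set_option linter.style.haveILetI false

namespace Cfsg.Lib.Blocks.PrimeInertial

open Cfsg.Lib.Chars Cfsg.Lib.Blocks
open scoped _root_.Classical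

universe u

variable {G : Type u} [Group G] [Fintype G] [Fact (Nat.Prime 2)] {M : Ideal AlgInt} {P : Sylow 2 G}

/-- An invariant set of nontrivial elements is a union of regular orbits. -/
lemma frobIndex_dvd (h : FrobeniusNormalizer P) (X : Finset (P : Subgroup G)) (hX1 : (1 : (P : Subgroup G)) ∉ X)
    (hX : ∀ a ∈ X, ∀ b : (P : Subgroup G), IsConj (a : G) b → b ∈ X) : frobIndex P ∣ X.card := by
  rw [Finset.card_eq_sum_card_image (fun a : (P : Subgroup G) => ConjClasses.mk (a : G)) X]
  refine Finset.dvd_sum fun c hc => ?_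
  obtain ⟨a, ha, rfl⟩ := Finset.mem_image.1 hc
  refine dvd_of_eq ?_
  rw [← natCard_isConj_syl h (fun e => hX1 (e ▸ ha) : a ≠ 1), Nat.card_eq_fintype_card, Fintype.card_subtype]
  congr 1
  ext b
  simp only [Finset.mem_filter, Finset.mem_univ, true_and, ConjClasses.mk_eq_mk_iff_isConj]
  exact ⟨fun hb => ⟨hX a ha b hb, hb.symm⟩, fun hb => hb.2.symm⟩

variable (P) in
/-- The elements of order at most two of the abelian Sylow subgroup. -/
noncomputable def omegaSet : Finset (P : Subgroup G) := Finset.univ.filter fun a => a * a = 1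

lemma mem_omegaSet {a : (P : Subgroup G)} : a ∈ omegaSet P ↔ a * a = 1 := by simp [omegaSet]

lemma sq_of_isConj {a b : G} (hc : IsConj a b) (ha : a * a = 1) : b * b = 1 := by
  obtain ⟨g, rfl⟩ := isConj_iff.1 hc
  rw [show g * a * g⁻¹ * (g * a * g⁻¹) = g * (a * a) * g⁻¹ by group, ha, mul_one, mul_inv_cancel]

lemma frobIndex_dvd_involutions (h : FrobeniusNormalizer P) :
    frobIndex P ∣ (omegaSet P).card - 1 := by
  rw [← Finset.card_erase_of_mem (show (1 : (P : Subgroup G)) ∈ omegaSet P by simp [mem_omegaSet])]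
  refine frobIndex_dvd h _ (Finset.notMem_erase _ _) fun a ha b hb => ?_
  obtain ⟨ha1, ha2⟩ := Finset.mem_erase.1 ha
  refine Finset.mem_erase.2 ⟨fun hb1 => ha1 (Subtype.ext ?_), mem_omegaSet.2 (Subtype.ext
    (sq_of_isConj hb (congrArg Subtype.val (mem_omegaSet.1 ha2))))⟩
  rw [hb1] at hb
  exact isConj_one_left.1 hb

/-- With as many involutions as the inertial index, all involutions are conjugate. -/
lemma isConj_involutions (h : FrobeniusNormalizer P) (hc : (omegaSet P).card = frobIndex P + 1)
    {s t : G} (hs : orderOf s = 2) (ht : orderOf t = 2) : IsConj s t := by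
  have hin : ∀ u : G, orderOf u = 2 → ∃ a : (P : Subgroup G), a * a = 1 ∧ a ≠ 1 ∧ IsConj u a := by
    intro u hu
    have hp : IsPGroup 2 (Subgroup.zpowers u) := IsPGroup.of_card (n := 1) (by
      rw [Nat.card_zpowers, hu, pow_one])
    obtain ⟨Q, hQ⟩ := hp.exists_le_sylow
    obtain ⟨g, hg⟩ := MulAction.exists_smul_eq G Q P
    have hm : g * u * g⁻¹ ∈ (P : Subgroup G) := by
      rw [← hg, Sylow.smul_def]
      exact ⟨u, hQ (Subgroup.mem_zpowers u), rfl⟩
    have huc : IsConj u (g * u * g⁻¹) := isConj_iff.2 ⟨g, rfl⟩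
    refine ⟨⟨_, hm⟩, Subtype.ext (sq_of_isConj huc (by rw [← pow_two, ← hu, pow_orderOf_eq_one])),
      fun e => ?_, huc⟩
    rw [show g * u * g⁻¹ = 1 from congrArg Subtype.val e] at huc
    rw [isConj_one_left.1 huc, orderOf_one] at hu
    omega
  obtain ⟨a, ha2, ha1, hsa⟩ := hin s hs
  obtain ⟨b, hb2, hb1, htb⟩ := hin t ht
  have hsub : (Finset.univ.filter fun c : (P : Subgroup G) => IsConj (a : G) c) ⊆ (omegaSet P).erase 1 := by
    intro c hc
    have hc' := (Finset.mem_filter.1 hc).2
    refine Finset.mem_erase.2 ⟨fun e => ha1 (Subtype.ext ?_), mem_omegaSet.2 (Subtype.ext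
      (sq_of_isConj hc' (congrArg Subtype.val ha2)))⟩
    rw [e] at hc'
    exact isConj_one_left.1 hc'
  have heq := Finset.eq_of_subset_of_card_le hsub (by
    rw [Finset.card_erase_of_mem (by simp [mem_omegaSet]), hc, ← Fintype.card_subtype,
      ← Nat.card_eq_fintype_card, natCard_isConj_syl h ha1, Nat.add_sub_cancel])
  have hb' : b ∈ (omegaSet P).erase 1 := Finset.mem_erase.2 ⟨hb1, mem_omegaSet.2 hb2⟩
  rw [← heq] at hb'
  have hb : IsConj (a : G) b := (Finset.mem_filter.1 hb').2
  exact (hsa.trans hb).trans htb.symm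

/-- The case of three involutions. -/
theorem rank_two (hM : IsPModular 2 M) (h : FrobeniusNormalizer P) (hr : 1 < frobIndex P)
    (hO : ∀ N : Subgroup G, N.Normal → Odd (Nat.card N) → N = ⊥) (h4 : (omegaSet P).card = 4) :
    ((P : Subgroup G).Normal ∧ Subgroup.centralizer ((P : Subgroup G) : Set G) = (P : Subgroup G)) ∨
      (Nat.card (P : Subgroup G) = frobIndex P + 1 ∧ blockRank 2 (principalBlock M G) = frobIndex P) := by
  letI : CommGroup (P : Subgroup G) :=
    { mul_comm := fun a b => Subtype.ext (h.comm a a.2 b b.2) }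
  have hr3 : frobIndex P = 3 := by
    have := frobIndex_dvd_involutions h
    rw [h4] at this
    exact ((Nat.dvd_prime (by norm_num)).1 this).resolve_left hr.ne'
  obtain ⟨k, hk⟩ := IsPGroup.iff_card.1 P.2
  have hker : Nat.card (powMonoidHom 2 : (P : Subgroup G) →* (P : Subgroup G)).ker = 4 := by
    rw [← h4, Nat.card_eq_fintype_card]
    exact Fintype.card_of_subtype _ fun a => by
      rw [mem_omegaSet, MonoidHom.mem_ker, powMonoidHom_apply, pow_two]
  rcases Cfsg.Lib.PGroups.char_index_or_homocyclic (p := 2) P.2 (by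
      rw [← Cfsg.Lib.PGroups.card_torsion P.2, hker]; norm_num) with ⟨R, hR, hRinv⟩ | ⟨m, hm1, hexp, ⟨e⟩⟩
  · exfalso
    have hd : frobIndex P ∣ (Finset.univ.filter fun a : (P : Subgroup G) => a ∉ R).card := by
      refine frobIndex_dvd h _ (by simp) fun a ha b hb => ?_
      obtain ⟨n, hn⟩ := exists_conjSyl_of_isConj h hb
      refine Finset.mem_filter.2 ⟨Finset.mem_univ _, fun hbR => (Finset.mem_filter.1 ha).2 ?_⟩
      have hbij : Function.Bijective (conjSyl P n⁻¹) :=
        ⟨fun x y hxy => by
          have := congrArg (conjSyl P n) hxy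
          rwa [← conjSyl_mul, ← conjSyl_mul, mul_inv_cancel, conjSyl_one, conjSyl_one] at this,
          fun x => ⟨conjSyl P n x, by rw [← conjSyl_mul, inv_mul_cancel, conjSyl_one]⟩⟩
      have := hRinv (MulEquiv.ofBijective _ hbij) b hbR
      rwa [MulEquiv.ofBijective_apply, ← hn, ← conjSyl_mul, inv_mul_cancel, conjSyl_one] at this
    have hc : (Finset.univ.filter fun a : (P : Subgroup G) => a ∉ R).card = Nat.card R := by
      have h1 := Finset.card_filter_add_card_filter_not (s := (Finset.univ : Finset (P : Subgroup G))) (· ∈ R)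
      have h2 := R.card_mul_index
      have h3 : (Finset.univ.filter fun a : (P : Subgroup G) => a ∈ R).card = Nat.card R := by
        rw [← Fintype.card_subtype, Nat.card_eq_fintype_card]
      rw [Finset.card_univ, ← Nat.card_eq_fintype_card, ← h2, hR, h3] at h1
      omega
    have hdk : frobIndex P ∣ 2 ^ k := by
      rw [← hk, ← R.card_mul_index]
      exact (hc ▸ hd).trans (dvd_mul_right _ _)
    rw [hr3] at hdk
    have := Nat.prime_three.dvd_of_dvd_pow hdk
    norm_num at this
  · by_cases hm : m = 1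
    · subst hm
      have hP4 : Nat.card (P : Subgroup G) = 4 := by
        rw [Nat.card_congr e.toEquiv, Nat.card_congr Multiplicative.toAdd, Nat.card_prod, Nat.card_zmod]
        norm_num
      refine Or.inr ⟨by rw [hP4, hr3], ?_⟩
      rw [hr3]
      exact klein_blockRank hP4 (fun u hu => by
        simpa [pow_two] using congrArg Subtype.val (hexp ⟨u, hu⟩)) hM fun s t =>
        isConj_involutions h (by rw [h4, hr3])
    · exact Or.inl ((Cfsg.Agent.S0949.result P m (by omega) e hO).imp_right And.left)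

/-- The normal case. -/
theorem normal_rank (hM : IsPModular 2 M) (h : FrobeniusNormalizer P) (hn : (P : Subgroup G).Normal)
    (hC : Subgroup.centralizer ((P : Subgroup G) : Set G) = (P : Subgroup G))
    (hE : ∀ a b : G, a * b * a⁻¹ * b⁻¹ ∈ Subgroup.centralizer ((P : Subgroup G) : Set G)) :
    blockRank 2 (principalBlock M G) = frobIndex P := by
  have hN : Subgroup.normalizer ((P : Subgroup G) : Set G) = ⊤ := by
    rw [Subgroup.normalizer_eq_top_iff]; exact hn
  have hidx : (P : Subgroup G).index = frobIndex P := by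
    rw [frobIndex, hC, hN, Subgroup.relIndex_top_right]
  haveI := hn
  have hodd : ¬ 2 ∣ (P : Subgroup G).index := P.not_dvd_index
  have hfix : ∀ g : G, g ∉ (P : Subgroup G) → ∀ y ∈ (P : Subgroup G), g * y = y * g → y = 1 := by
    intro g hg y hy hc
    by_contra hy1
    refine hg (hC ▸ h.frob y hy hy1 ⟨Subgroup.mem_centralizer_singleton_iff.2 hc, hN ▸ Subgroup.mem_top g⟩)
  have hreg : ∀ g : G, g ∉ (P : Subgroup G) → ¬ 2 ∣ orderOf g := by
    intro g hg hd
    have h1 := hfix g hg _ (Subgroup.pow_index_mem (P : Subgroup G) g) (Commute.self_pow g _).eq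
    exact hodd (hd.trans (orderOf_dvd_of_pow_eq_one h1))
  have hcoset : ∀ g g' : G, g ∉ (P : Subgroup G) → g⁻¹ * g' ∈ (P : Subgroup G) → IsConj g g' := by
    intro g g' hg hgg
    let φ : ↥(P : Subgroup G) → ↥(P : Subgroup G) := fun y =>
      ⟨g⁻¹ * y * g * (y : G)⁻¹, mul_mem (by
        simpa using hn.conj_mem y y.2 g⁻¹) (inv_mem y.2)⟩
    have hφ : Function.Injective φ := by
      intro a b hab
      have e : g⁻¹ * (a : G) * g * (a : G)⁻¹ = g⁻¹ * b * g * (b : G)⁻¹ := congrArg Subtype.val hab
      have e1 : (a : G) * g * (a : G)⁻¹ = b * g * (b : G)⁻¹ := by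
        simpa [mul_assoc] using e
      have e2 : g * ((b : G)⁻¹ * a) = (b : G)⁻¹ * a * g := by
        calc g * ((b : G)⁻¹ * a) = (b : G)⁻¹ * (b * g * (b : G)⁻¹) * a := by group
          _ = (b : G)⁻¹ * (a * g * (a : G)⁻¹) * a := by rw [e1]
          _ = _ := by group
      exact Subtype.ext (inv_mul_eq_one.1 (hfix g hg _ (mul_mem (inv_mem b.2) a.2) e2)).symm
    obtain ⟨y, hy⟩ := (Finite.injective_iff_surjective.1 hφ) ⟨_, hgg⟩
    refine isConj_iff.2 ⟨y, ?_⟩
    have e : g⁻¹ * (y : G) * g * (y : G)⁻¹ = g⁻¹ * g' := congrArg Subtype.val hy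
    simpa [mul_assoc] using e
  haveI : Fintype (G ⧸ (P : Subgroup G)) := Fintype.ofFinite _
  have hcomm : ∀ a b : G ⧸ (P : Subgroup G), a * b = b * a := by
    intro a b
    induction a using QuotientGroup.induction_on with | _ a => ?_
    induction b using QuotientGroup.induction_on with | _ b => ?_
    rw [← QuotientGroup.mk_mul, ← QuotientGroup.mk_mul, eq_comm, QuotientGroup.eq]
    have := hC ▸ hE a⁻¹ b⁻¹
    simpa [mul_assoc] using this
  let rep : G ⧸ (P : Subgroup G) → G := fun q => if q = 1 then 1 else q.out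
  have hrep : ∀ q, ((rep q : G) : G ⧸ (P : Subgroup G)) = q := fun q => by
    simp only [rep]
    split_ifs with hq
    · rw [hq]; rfl
    · exact QuotientGroup.out_eq' q
  have hrep_reg : ∀ q, ¬ 2 ∣ orderOf (rep q) := fun q => by
    simp only [rep]
    split_ifs with hq
    · simp
    · exact hreg _ fun hm => hq ((QuotientGroup.out_eq' q).symm.trans ((QuotientGroup.eq_one_iff _).2 hm))
  let L : (G → ℂ) →ₗ[ℂ] (G ⧸ (P : Subgroup G) → ℂ) :=
    { toFun := fun v q => v (rep q), map_add' := fun _ _ => rfl, map_smul' := fun _ _ => rfl }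
  set S := Submodule.span ℂ
    ((fun χ : IrrCharacter G => pRegularPart 2 (χ : G → ℂ)) '' principalBlock M G)
  have hS : ∀ v ∈ S, (∀ g : G, 2 ∣ orderOf g → v g = 0) ∧ ∀ g g' : G, IsConj g g' → v g' = v g := by
    intro v hv
    induction hv using Submodule.span_induction with
    | mem v hv =>
      obtain ⟨χ, -, rfl⟩ := hv
      refine ⟨fun g hg => by simp only [pRegularPart_apply, if_pos hg], fun g g' hc => ?_⟩
      obtain ⟨t, rfl⟩ := isConj_iff.1 hc
      simp only [pRegularPart_apply]
      rw [isClassFunction_irr χ g t,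
        show orderOf (t * g * t⁻¹) = orderOf g from
          orderOf_injective (MulAut.conj t).toMonoidHom (MulAut.conj t).injective g]
    | zero => exact ⟨fun _ _ => rfl, fun _ _ _ => rfl⟩
    | add a b _ _ ha hb => exact ⟨fun g hg => by simp [ha.1 g hg, hb.1 g hg],
        fun g g' hc => by simp [ha.2 g g' hc, hb.2 g g' hc]⟩
    | smul r a _ ha => exact ⟨fun g hg => by simp [ha.1 g hg], fun g g' hc => by simp [ha.2 g g' hc]⟩
  have hinj : Function.Injective (L.domRestrict S) := by
    intro a b hab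
    refine Subtype.ext (funext fun g => ?_)
    by_cases hg : g ∈ (P : Subgroup G)
    · by_cases hg1 : g = 1
      · subst hg1
        simpa [L, rep] using congrFun hab 1
      · have h2 : 2 ∣ orderOf g := by
          obtain ⟨k, hk⟩ := orderOf_syl (P := P) ⟨g, hg⟩
          rcases k with - | k
          · exact absurd (orderOf_eq_one_iff.1 (by simpa using hk)) hg1
          · exact hk ▸ dvd_pow_self 2 k.succ_ne_zero
        rw [(hS a a.2).1 g h2, (hS b b.2).1 g h2]
    · have hne : rep (g : G ⧸ (P : Subgroup G)) ∉ (P : Subgroup G) := fun hm => hg <| by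
        rw [← QuotientGroup.eq_one_iff, ← hrep (g : G ⧸ (P : Subgroup G))]
        exact (QuotientGroup.eq_one_iff _).2 hm
      have hc := hcoset _ g hne (QuotientGroup.eq.1 (hrep _))
      rw [(hS a a.2).2 _ _ hc, (hS b b.2).2 _ _ hc]
      exact congrFun hab _
  have htop : S.map L = ⊤ := by
    refine eq_top_iff.2 fun f _ => ?_
    have hf : f = ∑ φ : IrrCharacter (G ⧸ (P : Subgroup G)),
        classInner f (φ : G ⧸ (P : Subgroup G) → ℂ) • (φ : G ⧸ (P : Subgroup G) → ℂ) := by
      funext q
      simp only [Finset.sum_apply, Pi.smul_apply, smul_eq_mul]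
      exact classFunction_expand_apply (fun a b => by rw [hcomm b a, mul_inv_cancel_right]) q
    rw [hf]
    refine sum_mem fun φ _ => Submodule.smul_mem _ _
      ⟨pRegularPart 2 (inflate (P : Subgroup G) φ : G → ℂ), Submodule.subset_span
        ⟨_, sameBlock_of_self_centralizing hM P.2 hC.le (principal G) _, rfl⟩, funext fun q => ?_⟩
    show pRegularPart 2 (inflate (P : Subgroup G) φ : G → ℂ) (rep q) = _
    rw [pRegularPart_apply, if_neg (hrep_reg q), inflate_val, hrep]
  show Module.finrank ℂ S = _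
  rw [← LinearMap.finrank_range_of_inj hinj, LinearMap.range_domRestrict, htop, finrank_top,
    Module.finrank_fintype_fun_eq_card, ← Nat.card_eq_fintype_card, ← hidx]
  rfl

end Cfsg.Lib.Blocks.PrimeInertial
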