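import Cfsg.Agent.Blocks.PrimeInertial.Formula
import Cfsg.Agent.Blocks.SylowNormalize
import Cfsg.Agent.Blocks.PrincipalColumn
import Cfsg.Agent.Blocks.Quotient
import Cfsg.Agent.Components.Cores

/-!
# Automizers and principal blocks of quotients
-/

set_option autoImplicit false
set_option linter.unusedSectionVars false
set_option linter.style.haveILetI false

namespace Cfsg.Lib.Blocks.PrimeInertial

open Cfsg.Lib.Chars Cfsg.Lib.Blocks
open scoped _root_.Classical

universe u

variable {G : Type u} [Group G] [Fintype G] [Fact (Nat.Prime 2)] {M : Ideal AlgInt}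

/-- The image of a Sylow subgroup. -/
noncomputable def imgSylow (V : Subgroup G) [V.Normal] (P : Sylow 2 G) : Sylow 2 (G ⧸ V) :=
  P.mapSurjective (QuotientGroup.mk'_surjective V)

variable {V : Subgroup G} [V.Normal] {P : Sylow 2 G}

lemma mem_imgSylow {q : G ⧸ V} :
    q ∈ (imgSylow V P : Subgroup (G ⧸ V)) ↔ ∃ y ∈ (P : Subgroup G), (y : G ⧸ V) = q := by
  rw [imgSylow, Sylow.coe_mapSurjective]
  exact Subgroup.mem_map

lemma mem_normalizer_img {q : G ⧸ V} :
    q ∈ Subgroup.normalizer ((imgSylow V P : Subgroup (G ⧸ V)) : Set (G ⧸ V)) ↔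
      ∃ n ∈ Subgroup.normalizer ((P : Subgroup G) : Set G), (n : G ⧸ V) = q := by
  rw [imgSylow, Sylow.coe_mapSurjective, ← SylowNorm.map_normalizer_sylow]
  exact Subgroup.mem_map

variable (hV : ∀ n ∈ Subgroup.normalizer ((P : Subgroup G) : Set G), ∀ y ∈ (P : Subgroup G),
  n * y * n⁻¹ * y⁻¹ ∈ V → n * y = y * n)
include hV

lemma commute_lift {n y : G} (hn : n ∈ Subgroup.normalizer ((P : Subgroup G) : Set G))
    (hy : y ∈ (P : Subgroup G)) (hc : (n : G ⧸ V) * (y : G ⧸ V) = (y : G ⧸ V) * (n : G ⧸ V)) :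
    n * y = y * n := by
  refine hV n hn y hy ?_
  rw [← QuotientGroup.eq_one_iff]
  simp only [QuotientGroup.mk_mul, QuotientGroup.mk_inv]
  rw [hc, mul_inv_cancel_right, mul_inv_cancel]

lemma mem_centralizer_img {n : G} (hn : n ∈ Subgroup.normalizer ((P : Subgroup G) : Set G)) :
    (n : G ⧸ V) ∈ Subgroup.centralizer ((imgSylow V P : Subgroup (G ⧸ V)) : Set (G ⧸ V)) ↔
      n ∈ Subgroup.centralizer ((P : Subgroup G) : Set G) := by
  simp only [Subgroup.mem_centralizer_iff, SetLike.mem_coe, mem_imgSylow]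
  refine ⟨fun h y hy => (commute_lift hV hn hy (h _ ⟨y, hy, rfl⟩).symm).symm, ?_⟩
  rintro h _ ⟨y, hy, rfl⟩
  rw [← QuotientGroup.mk_mul, ← QuotientGroup.mk_mul, h y hy]

lemma frobIndex_img : frobIndex (imgSylow V P) = frobIndex P := by
  rw [frobIndex, frobIndex,
    show Subgroup.normalizer ((imgSylow V P : Subgroup (G ⧸ V)) : Set (G ⧸ V)) =
      (Subgroup.normalizer ((P : Subgroup G) : Set G)).map (QuotientGroup.mk' V) from
      Subgroup.ext fun q => by rw [mem_normalizer_img, Subgroup.mem_map]; rfl,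
    ← Subgroup.relIndex_comap, ← Subgroup.inf_relIndex_right]
  congr 1
  ext n
  rw [Subgroup.mem_inf, Subgroup.mem_comap, QuotientGroup.mk'_apply]
  exact ⟨fun h => (mem_centralizer_img hV h.2).1 h.1,
    fun h => ⟨(mem_centralizer_img hV (Subgroup.centralizer_le_normalizer _ h)).2 h,
      Subgroup.centralizer_le_normalizer _ h⟩⟩

lemma comm_img (hE : ∀ a ∈ Subgroup.normalizer ((P : Subgroup G) : Set G),
      ∀ b ∈ Subgroup.normalizer ((P : Subgroup G) : Set G),
      a * b * a⁻¹ * b⁻¹ ∈ Subgroup.centralizer ((P : Subgroup G) : Set G)) :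
    ∀ a ∈ Subgroup.normalizer ((imgSylow V P : Subgroup (G ⧸ V)) : Set (G ⧸ V)),
      ∀ b ∈ Subgroup.normalizer ((imgSylow V P : Subgroup (G ⧸ V)) : Set (G ⧸ V)),
      a * b * a⁻¹ * b⁻¹ ∈ Subgroup.centralizer ((imgSylow V P : Subgroup (G ⧸ V)) : Set (G ⧸ V)) := by
  intro a ha b hb
  obtain ⟨m, hm, rfl⟩ := mem_normalizer_img.1 ha
  obtain ⟨n, hn, rfl⟩ := mem_normalizer_img.1 hb
  rw [← QuotientGroup.mk_inv, ← QuotientGroup.mk_inv, ← QuotientGroup.mk_mul, ← QuotientGroup.mk_mul,
    ← QuotientGroup.mk_mul]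
  exact (mem_centralizer_img hV (mul_mem (mul_mem (mul_mem hm hn) (inv_mem hm)) (inv_mem hn))).2 (hE m hm n hn)

omit hV

/-- The principal block of the quotient by an odd normal subgroup. -/
lemma principal_invariants_odd (hM : IsPModular 2 M) (V : Subgroup G) [V.Normal] [Fintype (G ⧸ V)]
    (hV : ¬ 2 ∣ Nat.card V) :
    Nat.card (principalBlock M (G ⧸ V)) = Nat.card (principalBlock M G) ∧
      blockRank 2 (principalBlock M (G ⧸ V)) = blockRank 2 (principalBlock M G) := by
  have himg := image_inflate_principal hM V hV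
  have hinj : Function.Injective (inflate V : IrrCharacter (G ⧸ V) → IrrCharacter G) := fun φ ψ h => by
    refine Subtype.ext (funext fun q => ?_)
    induction q using QuotientGroup.induction_on with | _ g => ?_
    rw [← inflate_val, ← inflate_val, h]
  have hsing : ∀ g : G, 2 ∣ orderOf (g : G ⧸ V) ↔ 2 ∣ orderOf g := by
    refine fun g => ⟨fun h => h.trans (orderOf_map_dvd (QuotientGroup.mk' V) g), fun h => ?_⟩
    have hmem : g ^ orderOf (g : G ⧸ V) ∈ V := by
      rw [← QuotientGroup.eq_one_iff, QuotientGroup.mk_pow, pow_orderOf_eq_one]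
    have h1 : orderOf g ∣ orderOf (g : G ⧸ V) * Nat.card V := by
      refine orderOf_dvd_of_pow_eq_one ?_
      rw [pow_mul]
      exact congrArg Subtype.val (pow_card_eq_one' (x := (⟨_, hmem⟩ : V)))
    exact (Nat.prime_two.dvd_mul.1 (h.trans h1)).resolve_right hV
  refine ⟨?_, ?_⟩
  · rw [← himg, Nat.card_image_of_injective hinj]
  · let R : ((G ⧸ V) → ℂ) →ₗ[ℂ] (G → ℂ) :=
      { toFun := fun h x => h (x : G ⧸ V), map_add' := fun _ _ => rfl, map_smul' := fun _ _ => rfl }
    have hR : ∀ φ : IrrCharacter (G ⧸ V),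
        R (pRegularPart 2 (φ : G ⧸ V → ℂ)) = pRegularPart 2 (inflate V φ : G → ℂ) := fun φ => by
      funext x
      show pRegularPart 2 (φ : G ⧸ V → ℂ) (x : G ⧸ V) = _
      simp only [pRegularPart_apply, inflate_val, hsing]
    have hmap : (Submodule.span ℂ ((fun φ : IrrCharacter (G ⧸ V) => pRegularPart 2 (φ : G ⧸ V → ℂ)) ''
        principalBlock M (G ⧸ V))).map R =
        Submodule.span ℂ ((fun χ : IrrCharacter G => pRegularPart 2 (χ : G → ℂ)) '' principalBlock M G) := by
      rw [Submodule.map_span, ← himg, Set.image_image, Set.image_image]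
      simp only [hR]
    have hRinj : Function.Injective R := fun a b hab => funext fun q => by
      induction q using QuotientGroup.induction_on with | _ g => ?_
      exact congrFun hab g
    show Module.finrank ℂ _ = Module.finrank ℂ _
    rw [← hmap]
    exact (Submodule.equivMapOfInjective R hRinj _).finrank_eq

end Cfsg.Lib.Blocks.PrimeInertial
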