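import Cfsg.Agent.Blocks.PrimeInertial.Structure
import Cfsg.Agent.Blocks.PrimeInertial.Quot
import Cfsg.Agent.InvolCalc.ZStarApps
import Cfsg.Agent.Transfer.Control
import Cfsg.Agent.Transfer.Abelian
import Cfsg.Agent.S4571
import Cfsg.Agent.Coprime.Hall

/-!
# Principal 2-blocks with an abelian Sylow subgroup and a semiregular abelian automizer
-/

set_option autoImplicit false
set_option linter.unusedSectionVars false
set_option linter.style.haveILetI false

namespace Cfsg.Lib.Blocks.PrimeInertial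

open Cfsg.Lib.Chars Cfsg.Lib.Blocks
open scoped _root_.Classical

universe u

variable {G : Type u} [Group G] [Fintype G] [Fact (Nat.Prime 2)] {M : Ideal AlgInt}

lemma card_map_injOn {A B : Type*} [Group A] [Group B] (f : A →* B) (K : Subgroup A)
    (h : Set.InjOn f K) : Nat.card (K.map f) = Nat.card K := by
  rw [← SetLike.coe_sort_coe, ← SetLike.coe_sort_coe, Subgroup.coe_map]
  exact Nat.card_image_of_injOn h

/-- The elements of `P` centralised by the normalizer. -/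
def fixedPart (P : Sylow 2 G) : Subgroup G :=
  (P : Subgroup G) ⊓ Subgroup.centralizer (Subgroup.normalizer ((P : Subgroup G) : Set G) : Set G)

/-- Without automizer. -/
theorem index_one (hM : IsPModular 2 M) (P : Sylow 2 G)
    (hab : ∀ a ∈ (P : Subgroup G), ∀ b ∈ (P : Subgroup G), a * b = b * a) (he : frobIndex P = 1) :
    blockRank 2 (principalBlock M G) = 1 ∧ Nat.card (principalBlock M G) = Nat.card (P : Subgroup G) := by
  have hle := Subgroup.relIndex_eq_one.1 he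
  have hl : blockRank 2 (principalBlock M G) = 1 :=
    blockRank_principal_eq_one hM (SixteenNine.complement_of_centralize P hle)
  refine ⟨hl, ?_⟩
  have h := count_formula hM P hab ⊥ bot_le bot_le fun _ _ _ t ht _ => hle ht
  rw [he, hl, Subgroup.card_bot, one_mul, mul_one, mul_one] at h
  omega

/-- The main theorem for a nontrivial automizer. -/
theorem main_invariants (hM : IsPModular 2 M) (P : Sylow 2 G)
    (hab : ∀ a ∈ (P : Subgroup G), ∀ b ∈ (P : Subgroup G), a * b = b * a)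
    (hfree : ∀ y ∈ (P : Subgroup G), y ∉ fixedPart P →
      ∀ t ∈ Subgroup.normalizer ((P : Subgroup G) : Set G), t * y = y * t →
        t ∈ Subgroup.centralizer ((P : Subgroup G) : Set G))
    (hE : ∀ a ∈ Subgroup.normalizer ((P : Subgroup G) : Set G),
      ∀ b ∈ Subgroup.normalizer ((P : Subgroup G) : Set G),
      a * b * a⁻¹ * b⁻¹ ∈ Subgroup.centralizer ((P : Subgroup G) : Set G))
    (he : 1 < frobIndex P) :
    blockRank 2 (principalBlock M G) = frobIndex P ∧
      frobIndex P * Nat.card (principalBlock M G) + Nat.card (fixedPart P) =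
        frobIndex P * Nat.card (fixedPart P) * frobIndex P + Nat.card (P : Subgroup G) ∧
      (Group.IsSolvable G ∨ Nat.card (P : Subgroup G) = Nat.card (fixedPart P) * (frobIndex P + 1)) := by
  haveI hPc : IsMulCommutative (P : Subgroup G) := ⟨⟨fun a b => Subtype.ext (hab a a.2 b b.2)⟩⟩
  -- the quotient by the core
  set O := pPrimeCore 2 G with hO
  have hOodd : ¬ 2 ∣ Nat.card O := Nat.prime_two.coprime_iff_not_dvd.1
    (Cfsg.Lib.Components.coprime_card_pPrimeCore 2).symm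
  have hOP : ∀ z : G, z ∈ O → z ∈ (P : Subgroup G) → z = 1 := fun z hzO hzP => by
    obtain ⟨k, hk⟩ := orderOf_syl (P := P) ⟨z, hzP⟩
    rcases k with - | k
    · exact orderOf_eq_one_iff.1 (by simpa using hk)
    · refine absurd ?_ hOodd
      exact (hk ▸ dvd_pow_self 2 k.succ_ne_zero : 2 ∣ orderOf z).trans
        ((Subgroup.orderOf_coe (⟨z, hzO⟩ : O)).dvd.trans (orderOf_dvd_natCard _))
  have hV1 : ∀ n ∈ Subgroup.normalizer ((P : Subgroup G) : Set G), ∀ y ∈ (P : Subgroup G),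
      n * y * n⁻¹ * y⁻¹ ∈ O → n * y = y * n := fun n hn y hy hm =>
    mul_inv_eq_iff_eq_mul.1 (mul_inv_eq_one.1 (hOP _ hm
      (mul_mem ((Subgroup.mem_normalizer_iff.1 hn y).1 hy) (inv_mem hy))))
  haveI : Fintype (G ⧸ O) := Fintype.ofFinite _
  set P₁ := imgSylow O P with hP₁
  have hab₁ : ∀ a ∈ (P₁ : Subgroup (G ⧸ O)), ∀ b ∈ (P₁ : Subgroup (G ⧸ O)), a * b = b * a := by
    intro a ha b hb
    obtain ⟨y, hy, rfl⟩ := mem_imgSylow.1 ha
    obtain ⟨z, hz, rfl⟩ := mem_imgSylow.1 hb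
    rw [← QuotientGroup.mk_mul, ← QuotientGroup.mk_mul, hab y hy z hz]
  haveI hP₁c : IsMulCommutative (P₁ : Subgroup (G ⧸ O)) := ⟨⟨fun a b => Subtype.ext (hab₁ a a.2 b b.2)⟩⟩
  -- the fixed part is central
  set Z := (fixedPart P).map (QuotientGroup.mk' O) with hZ
  have hZP : Z ≤ (P₁ : Subgroup (G ⧸ O)) := by
    rintro _ ⟨z, hz, rfl⟩
    exact mem_imgSylow.2 ⟨z, hz.1, rfl⟩
  have hZc : Z ≤ Subgroup.center (G ⧸ O) := by
    rintro _ ⟨z, hz, rfl⟩
    rw [Subgroup.mem_center_iff]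
    intro q
    induction q using QuotientGroup.induction_on with | _ g => ?_
    have hiso : Cfsg.Lib.ZStarApps.Isolated2 z := ⟨P, hz.1, fun g' hg' => by
      obtain ⟨n, hn, e⟩ := Cfsg.Lib.Transfer.abelian_sylow_fusion P hPc z g' hz.1 hg'
      rw [e, Subgroup.mem_centralizer_iff.1 hz.2 n hn, mul_inv_cancel_right]⟩
    obtain ⟨k, hk⟩ := orderOf_syl (P := P) ⟨z, hz.1⟩
    have hc := Cfsg.Lib.ZStarApps.central_of_isolated2 k z hk.dvd hiso g
    rw [← QuotientGroup.eq_one_iff] at hc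
    simp only [QuotientGroup.mk_mul, QuotientGroup.mk_inv] at hc
    exact mul_inv_eq_iff_eq_mul.1 (mul_inv_eq_one.1 hc)
  haveI hZn : Z.Normal := ⟨fun n hn g => by
    rw [show g * n * g⁻¹ = n by rw [Subgroup.mem_center_iff.1 (hZc hn) g, mul_inv_cancel_right]]
    exact hn⟩
  have hZcomm : ∀ x ∈ Z, x ∈ commutator (G ⧸ O) → x = 1 := fun x hx hxc => by
    refine Cfsg.Lib.Transfer.eq_one_of_mem_commutator_of_central (P₁ : Subgroup (G ⧸ O)) ?_ (hZP hx) hxc (hZc hx)
    obtain ⟨k, hk⟩ := IsPGroup.iff_card.1 P₁.2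
    rw [hk]
    exact Nat.Coprime.pow_left _ (Nat.prime_two.coprime_iff_not_dvd.2 P₁.not_dvd_index)
  have hV2 : ∀ n ∈ Subgroup.normalizer ((P₁ : Subgroup (G ⧸ O)) : Set (G ⧸ O)),
      ∀ y ∈ (P₁ : Subgroup (G ⧸ O)), n * y * n⁻¹ * y⁻¹ ∈ Z → n * y = y * n := fun n _ y _ hm =>
    mul_inv_eq_iff_eq_mul.1 (mul_inv_eq_one.1 (hZcomm _ hm
      (Subgroup.commutator_mem_commutator (Subgroup.mem_top n) (Subgroup.mem_top y))))
  -- the second quotient
  haveI : Fintype ((G ⧸ O) ⧸ Z) := Fintype.ofFinite _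
  set P₂ := imgSylow Z P₁ with hP₂
  have hidx : frobIndex P₂ = frobIndex P := by rw [hP₂, frobIndex_img hV2, hP₁, frobIndex_img hV1]
  have hfree₁ : ∀ y ∈ (P₁ : Subgroup (G ⧸ O)), y ∉ Z →
      ∀ t ∈ Subgroup.normalizer ((P₁ : Subgroup (G ⧸ O)) : Set (G ⧸ O)), t * y = y * t →
        t ∈ Subgroup.centralizer ((P₁ : Subgroup (G ⧸ O)) : Set (G ⧸ O)) := by
    intro y hy hyZ t ht hc
    obtain ⟨y₀, hy₀, rfl⟩ := mem_imgSylow.1 hy
    obtain ⟨t₀, ht₀, rfl⟩ := mem_normalizer_img.1 ht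
    exact (mem_centralizer_img hV1 ht₀).2
      (hfree y₀ hy₀ (fun h => hyZ ⟨y₀, h, rfl⟩) t₀ ht₀ (commute_lift hV1 ht₀ hy₀ hc))
  have hfrob : FrobeniusNormalizer P₂ := by
    refine ⟨fun a ha b hb => ?_, fun y hy hy1 => ?_⟩
    · obtain ⟨y, hy, rfl⟩ := mem_imgSylow.1 ha
      obtain ⟨z, hz, rfl⟩ := mem_imgSylow.1 hb
      rw [← QuotientGroup.mk_mul, ← QuotientGroup.mk_mul, hab₁ y hy z hz]
    · rintro t ⟨htc, htn⟩
      obtain ⟨y₁, hy₁, rfl⟩ := mem_imgSylow.1 hy
      obtain ⟨t₁, ht₁, rfl⟩ := mem_normalizer_img.1 htn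
      exact (mem_centralizer_img hV2 ht₁).2 (hfree₁ y₁ hy₁
        (fun h => hy1 ((QuotientGroup.eq_one_iff _).2 h)) t₁ ht₁
        (commute_lift hV2 ht₁ hy₁ (Subgroup.mem_centralizer_singleton_iff.1 htc)))
  have hcore₁ : ∀ N : Subgroup (G ⧸ O), N.Normal → Odd (Nat.card N) → N = ⊥ := by
    intro N hN hodd
    have hle : N.comap (QuotientGroup.mk' O) ≤ O := by
      haveI : (N.comap (QuotientGroup.mk' O)).Normal := hN.comap _
      refine Cfsg.Lib.Components.le_pPrimeCore ?_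
      rw [Cfsg.Lib.Coprime.card_comap_mk']
      exact ((Cfsg.Lib.Components.coprime_card_pPrimeCore 2)).mul_left
        ((Nat.prime_two.coprime_iff_not_dvd.2 fun h2 =>
          Nat.not_even_iff_odd.2 hodd (even_iff_two_dvd.2 h2)).symm)
    refine le_bot_iff.1 fun q hq => ?_
    obtain ⟨g, rfl⟩ := QuotientGroup.mk'_surjective O q
    exact Subgroup.mem_bot.2 ((QuotientGroup.eq_one_iff g).2 (hle hq))
  have hcore₂ : ∀ N : Subgroup ((G ⧸ O) ⧸ Z), N.Normal → Odd (Nat.card N) → N = ⊥ := by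
    intro N hN hodd
    set X := N.comap (QuotientGroup.mk' Z) with hX
    haveI hXn : X.Normal := hN.comap _
    have hZX : Z ≤ X := fun z hz => by
      rw [hX, Subgroup.mem_comap, show QuotientGroup.mk' Z z = 1 from (QuotientGroup.eq_one_iff z).2 hz]
      exact one_mem N
    have hcX : Nat.card X = Nat.card Z * Nat.card N := Cfsg.Lib.Coprime.card_comap_mk' N
    have hindex : (Z.subgroupOf X).index = Nat.card N := by
      have h1 := (Z.subgroupOf X).card_mul_index
      rw [Nat.card_congr (Subgroup.subgroupOfEquivOfLe hZX).toEquiv, hcX] at h1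
      exact Nat.eq_of_mul_eq_mul_left Nat.card_pos h1
    obtain ⟨k, hk⟩ := IsPGroup.iff_card.1 (P₁.2.to_le hZP)
    have hN2 : (2 : ℕ).Coprime (Nat.card N) := Nat.prime_two.coprime_iff_not_dvd.2 fun h2 =>
      Nat.not_even_iff_odd.2 hodd (even_iff_two_dvd.2 h2)
    obtain ⟨H, hH⟩ := Subgroup.exists_right_complement'_of_coprime (N := Z.subgroupOf X) (by
      rw [hindex, Nat.card_congr (Subgroup.subgroupOfEquivOfLe hZX).toEquiv, hk]
      exact hN2.pow_left k)
    have hHc : Nat.card H = Nat.card N := by rw [← hindex, hH.symm.index_eq_card]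
    have hnorm : (H.map X.subtype).Normal := by
      refine ⟨?_⟩
      rintro _ ⟨a, ha, rfl⟩ g
      obtain ⟨⟨z, b⟩, hzb, -⟩ := hH.existsUnique ⟨g * a * g⁻¹, hXn.conj_mem _ a.2 g⟩
      have e : ((z : X) : G ⧸ O) * ((b : X) : G ⧸ O) = g * a * g⁻¹ := congrArg Subtype.val hzb
      have hzZ : ((z : X) : G ⧸ O) ∈ Z := z.2
      have h1 : ((a : X) : G ⧸ O) ^ Nat.card H = 1 :=
        congrArg (fun x : H => ((x : X) : G ⧸ O)) (pow_card_eq_one' (x := (⟨a, ha⟩ : H)))
      have h2 : ((b : X) : G ⧸ O) ^ Nat.card H = 1 :=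
        congrArg (fun x : H => ((x : X) : G ⧸ O)) (pow_card_eq_one' (x := b))
      have h3 : ((z : X) : G ⧸ O) ^ Nat.card H = 1 := by
        have h := congrArg (· ^ Nat.card H) e
        rw [(show Commute ((z : X) : G ⧸ O) ((b : X) : G ⧸ O) from
          (Subgroup.mem_center_iff.1 (hZc hzZ) _).symm).mul_pow, h2, mul_one, conj_pow, h1, mul_one,
          mul_inv_cancel] at h
        exact h
      have hz1 : ((z : X) : G ⧸ O) = 1 := orderOf_eq_one_iff.1 (Nat.eq_one_of_dvd_coprimes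
        (hHc ▸ hN2.pow_left k) ((Subgroup.orderOf_coe (⟨_, hzZ⟩ : Z)).dvd.trans (hk ▸ orderOf_dvd_natCard _))
        (orderOf_dvd_of_pow_eq_one h3))
      rw [hz1, one_mul] at e
      exact ⟨b, b.2, e⟩
    have hHbot := hcore₁ _ hnorm (by rw [Subgroup.card_map_of_injective X.subtype_injective, hHc]; exact hodd)
    rw [Subgroup.eq_bot_iff_card] at hHbot ⊢
    rwa [Subgroup.card_map_of_injective X.subtype_injective, hHc] at hHbot
  -- cardinalities
  have hfix : Nat.card Z = Nat.card (fixedPart P) := by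
    refine card_map_injOn _ _ fun a ha b hb hab => ?_
    exact inv_mul_eq_one.1 (hOP _ (QuotientGroup.eq.1 hab) (mul_mem (inv_mem ha.1) hb.1))
  have hP₁card : Nat.card (P₁ : Subgroup (G ⧸ O)) = Nat.card (P : Subgroup G) := by
    rw [hP₁, imgSylow, Sylow.coe_mapSurjective]
    exact card_map_injOn _ _ fun a ha b hb hab =>
      inv_mul_eq_one.1 (hOP _ (QuotientGroup.eq.1 hab) (mul_mem (inv_mem ha) hb))
  have hP₂card : Nat.card (P₂ : Subgroup ((G ⧸ O) ⧸ Z)) * Nat.card Z = Nat.card (P : Subgroup G) := by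
    rw [← hP₁card, mul_comm, hP₂, imgSylow, Sylow.coe_mapSurjective, ← Cfsg.Lib.Coprime.card_comap_mk' (N := Z),
      Subgroup.comap_map_eq, QuotientGroup.ker_mk', sup_eq_left.2 hZP]
  -- the invariants
  obtain ⟨hk₁, hl₁⟩ := principal_invariants_odd hM O hOodd
  have hl₂ : blockRank 2 (principalBlock M (G ⧸ O)) = blockRank 2 (principalBlock M ((G ⧸ O) ⧸ Z)) := by
    refine Cfsg.Agent.S4571.result 2 M hM Z (P₁.2.to_le hZP) (eq_top_iff.2 fun g _ => Subgroup.mem_sup_right ?_)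
    exact Subgroup.mem_centralizer_iff.2 fun z hz => (Subgroup.mem_center_iff.1 (hZc hz) g).symm
  have hmain : blockRank 2 (principalBlock M ((G ⧸ O) ⧸ Z)) = frobIndex P ∧
      (Group.IsSolvable G ∨ Nat.card (P₂ : Subgroup ((G ⧸ O) ⧸ Z)) = frobIndex P + 1) := by
    rcases structure_dichotomy hM hfrob (hidx.symm ▸ he) hcore₂ with ⟨hn, hC⟩ | ⟨hc, hr⟩
    · have hN : Subgroup.normalizer ((P₂ : Subgroup ((G ⧸ O) ⧸ Z)) : Set ((G ⧸ O) ⧸ Z)) = ⊤ := by
        rw [Subgroup.normalizer_eq_top_iff]; exact hn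
      have hE₂ : ∀ a b : (G ⧸ O) ⧸ Z, a * b * a⁻¹ * b⁻¹ ∈
          Subgroup.centralizer ((P₂ : Subgroup ((G ⧸ O) ⧸ Z)) : Set ((G ⧸ O) ⧸ Z)) := fun a b =>
        comm_img hV2 (comm_img hV1 hE) a (hN ▸ Subgroup.mem_top a) b (hN ▸ Subgroup.mem_top b)
      refine ⟨(normal_rank hM hfrob hn hC hE₂).trans hidx, Or.inl ?_⟩
      haveI := hn
      haveI : Group.IsSolvable (P₂ : Subgroup ((G ⧸ O) ⧸ Z)) :=
        Group.isSolvable_of_comm fun a b => Subtype.ext (hfrob.comm a a.2 b b.2)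
      haveI : Group.IsSolvable (((G ⧸ O) ⧸ Z) ⧸ (P₂ : Subgroup ((G ⧸ O) ⧸ Z))) :=
        Group.isSolvable_of_comm fun a b => by
          induction a using QuotientGroup.induction_on with | _ a => ?_
          induction b using QuotientGroup.induction_on with | _ b => ?_
          rw [← QuotientGroup.mk_mul, ← QuotientGroup.mk_mul, eq_comm, QuotientGroup.eq]
          have := hC ▸ hE₂ a⁻¹ b⁻¹
          simpa [mul_assoc] using this
      haveI : Group.IsSolvable ((G ⧸ O) ⧸ Z) := Group.isSolvable_of_ker_le_range (P₂ : Subgroup ((G ⧸ O) ⧸ Z)).subtype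
        (g := QuotientGroup.mk' (P₂ : Subgroup ((G ⧸ O) ⧸ Z))) (by simp)
      haveI : Group.IsSolvable Z :=
        Group.isSolvable_of_comm fun a b => Subtype.ext (hab₁ a (hZP a.2) b (hZP b.2))
      haveI : Group.IsSolvable (G ⧸ O) := Group.isSolvable_of_ker_le_range Z.subtype
        (g := QuotientGroup.mk' Z) (by simp)
      haveI : Group.IsSolvable O := Cfsg.Agent.S0205.result (Nat.not_even_iff_odd.1 fun h2 =>
        hOodd (even_iff_two_dvd.1 h2))
      exact Group.isSolvable_of_ker_le_range O.subtype (g := QuotientGroup.mk' O) (by simp)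
    · exact ⟨hr.trans hidx, Or.inr (hidx ▸ hc)⟩
  have hl : blockRank 2 (principalBlock M G) = frobIndex P := by rw [← hl₁, hl₂, hmain.1]
  refine ⟨hl, ?_, hmain.2.imp_right fun h => ?_⟩
  · have h := count_formula hM P₁ hab₁ Z hZP hZc hfree₁
    rw [hP₁, frobIndex_img hV1, ← hP₁] at h
    rw [hk₁, hl₁, hl, hfix, hP₁card] at h
    exact h
  · rw [← hP₂card, h, hfix, mul_comm]

end Cfsg.Lib.Blocks.PrimeInertial
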