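import Cfsg.Agent.Blocks.PrimeInertial.Orbits
import Cfsg.Agent.Components.Signalizer.Sft.Main
import Cfsg.Agent.S0205
import Cfsg.Agent.S0944

/-!
# With three involution generators all involution centralisers are the Sylow subgroup

The signalizer functor of the cores of the centralisers generates an odd subgroup covering the
centralisers; it is in the kernel of the principal block, so it is trivial.
-/

set_option autoImplicit false
set_option linter.unusedSectionVars false
set_option linter.style.haveILetI false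

namespace Cfsg.Lib.Blocks.PrimeInertial

open Cfsg.Lib.Chars Cfsg.Lib.Blocks
open scoped _root_.Classical ComplexConjugate

universe u

variable {G : Type u} [Group G] [Fintype G] [Fact (Nat.Prime 2)] {M : Ideal AlgInt} {P : Sylow 2 G}

/-- The core of the centraliser of an element. -/
noncomputable def coreAt (a : G) : Subgroup G :=
  (pPrimeCore 2 (Subgroup.centralizer ({a} : Set G))).map (Subgroup.centralizer ({a} : Set G)).subtype

/-- The core consists of the odd elements; the centraliser is the core times `P`. -/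
lemma coreAt_spec (h : FrobeniusNormalizer P) {a : G} (ha : a ∈ (P : Subgroup G)) (ha1 : a ≠ 1) :
    (∀ g, g ∈ coreAt a ↔ g ∈ Subgroup.centralizer ({a} : Set G) ∧ ¬ 2 ∣ orderOf g) ∧
      Subgroup.centralizer ({a} : Set G) ≤ coreAt a ⊔ (P : Subgroup G) ∧
      ¬ 2 ∣ Nat.card (coreAt a) := by
  set C := Subgroup.centralizer ({a} : Set G) with hC
  have hN : HasNormalPComplement 2 C := by
    have := hasNormalPComplement_centralizer h ha ha1
    rwa [centralizer_zpowers] at this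
  obtain ⟨K, hKn, hKc, k, hk⟩ := Cfsg.Lib.Transfer.hasNormalPComplement_iff.1 hN
  have hK2 : ¬ 2 ∣ Nat.card K := Nat.prime_two.coprime_iff_not_dvd.1 hKc.symm
  have hcop : (Nat.card (pPrimeCore 2 C)).Coprime 2 := Cfsg.Lib.Components.coprime_card_pPrimeCore 2
  have hc2 : ¬ 2 ∣ Nat.card (pPrimeCore 2 C) := Nat.prime_two.coprime_iff_not_dvd.1 hcop.symm
  have hKle : K ≤ pPrimeCore 2 C :=
    haveI := hKn
    Cfsg.Lib.Components.le_pPrimeCore hKc
  have hmemK : ∀ g : C, ¬ 2 ∣ orderOf g → g ∈ K := fun g hg =>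
    mem_of_pRegular_of_index_eq_pow Nat.prime_two K hk hg
  refine ⟨fun g => ⟨?_, fun hg => ?_⟩, fun g hg => ?_, ?_⟩
  · rintro ⟨x, hx, rfl⟩
    refine ⟨x.2, fun hd => hc2 ?_⟩
    rw [Subgroup.coe_subtype, Subgroup.orderOf_coe] at hd
    exact hd.trans ((Subgroup.orderOf_coe (⟨x, hx⟩ : pPrimeCore 2 C)).dvd.trans (orderOf_dvd_natCard _))
  · exact ⟨⟨g, hg.1⟩, hKle (hmemK _ (by rw [← Subgroup.orderOf_coe]; exact hg.2)), rfl⟩
  · have hPC : (P : Subgroup G) ≤ C := fun z hz =>
      Subgroup.mem_centralizer_singleton_iff.2 (h.comm z hz a ha)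
    have hc := Cfsg.Lib.Transfer.isComplement'_sylow_of_coprime_index hKc hk (P.subtype hPC)
    obtain ⟨⟨x, y⟩, hxy, -⟩ := hc.existsUnique ⟨g, hg⟩
    have e : ((x : C) : G) * ((y : C) : G) = g := congrArg Subtype.val hxy
    rw [← e]
    refine mul_mem (Subgroup.mem_sup_left ⟨x, hKle x.2, rfl⟩) (Subgroup.mem_sup_right ?_)
    exact y.2
  · rw [coreAt, Subgroup.card_map_of_injective C.subtype_injective]
    exact hc2

/-- Elements of order two in `P` reached from any nontrivial element. -/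
lemma exists_involution_mem {y : G} (hy : y ∈ (P : Subgroup G)) (hy1 : y ≠ 1) :
    ∃ z ∈ (P : Subgroup G), z ≠ 1 ∧ z * z = 1 ∧
      Subgroup.centralizer ({y} : Set G) ≤ Subgroup.centralizer ({z} : Set G) := by
  obtain ⟨k, hk⟩ := orderOf_syl (P := P) ⟨y, hy⟩
  have h2 : 2 ∣ orderOf y := by
    rcases k with - | k
    · exact absurd (orderOf_eq_one_iff.1 (by simpa using hk)) hy1
    · exact hk ▸ dvd_pow_self 2 k.succ_ne_zero
  obtain ⟨j, hj⟩ := exists_involution_pow h2
  refine ⟨y ^ j, (P : Subgroup G).pow_mem hy j, fun e => ?_, ?_, fun g hg => ?_⟩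
  · rw [e, orderOf_one] at hj; omega
  · rw [← pow_two, ← hj, pow_orderOf_eq_one]
  · rw [Subgroup.mem_centralizer_singleton_iff] at hg ⊢
    exact ((show Commute g y from hg).pow_right j).eq

variable (P) in
/-- The elements of order at most two, as a subgroup. -/
def omegaSub (hab : ∀ a ∈ (P : Subgroup G), ∀ b ∈ (P : Subgroup G), a * b = b * a) : Subgroup G where
  carrier := {g | g ∈ (P : Subgroup G) ∧ g * g = 1}
  one_mem' := ⟨one_mem _, one_mul 1⟩
  mul_mem' := fun {a b} ha hb => ⟨mul_mem ha.1 hb.1, by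
    rw [show a * b * (a * b) = a * (b * a) * b by group, hab b hb.1 a ha.1,
      show a * (a * b) * b = a * a * (b * b) by group, ha.2, hb.2, one_mul]⟩
  inv_mem' := fun {a} ha => ⟨inv_mem ha.1, by rw [← mul_inv_rev, ha.2, inv_one]⟩

/-- The kernel theorem makes the centralisers trivial modulo `P`. -/
theorem centralizer_eq_sylow (hM : IsPModular 2 M) (h : FrobeniusNormalizer P)
    (hO : ∀ N : Subgroup G, N.Normal → Odd (Nat.card N) → N = ⊥) (h8 : 8 ≤ (omegaSet P).card)
    {y : G} (hy : y ∈ (P : Subgroup G)) (hy1 : y ≠ 1) :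
    Subgroup.centralizer ({y} : Set G) = (P : Subgroup G) := by
  set A := omegaSub P h.comm with hA
  have hmemA : ∀ g, g ∈ A ↔ g ∈ (P : Subgroup G) ∧ g * g = 1 := fun _ => Iff.rfl
  have hAel : IsElementaryAbelian 2 A :=
    ⟨⟨⟨fun a b => Subtype.ext (h.comm a a.2.1 b b.2.1)⟩⟩, fun a ha => (pow_two a).trans ha.2⟩
  have hAcard : 2 ^ 3 ≤ Nat.card A := by
    refine le_trans h8 (le_of_eq ?_)
    rw [← Fintype.card_coe, ← Nat.card_eq_fintype_card]
    exact Nat.card_congr ⟨fun a => ⟨a.1.1, a.1.2, congrArg Subtype.val (mem_omegaSet.1 a.2)⟩,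
      fun g => ⟨⟨g.1, g.2.1⟩, mem_omegaSet.2 (Subtype.ext g.2.2)⟩, fun _ => rfl, fun _ => rfl⟩
  have hθ : IsSolvableSignalizerFunctor 2 A (coreAt : G → Subgroup G) := by
    refine ⟨⟨fun a ha ha1 g hg => (((coreAt_spec h ha.1 ha1).1 g).1 hg).1,
      fun a ha ha1 => (coreAt_spec h ha.1 ha1).2.2, fun a ha ha1 b hb x hx => ?_,
      fun a ha ha1 b hb hb1 x hx => ?_⟩, fun a ha ha1 => ?_⟩
    · obtain ⟨hxC, hx2⟩ := ((coreAt_spec h ha.1 ha1).1 x).1 hx
      refine ((coreAt_spec h ha.1 ha1).1 _).2 ⟨?_, ?_⟩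
      · have hbC : b ∈ Subgroup.centralizer ({a} : Set G) :=
          Subgroup.mem_centralizer_singleton_iff.2 (h.comm b hb.1 a ha.1)
        exact mul_mem (mul_mem hbC hxC) (inv_mem hbC)
      · rwa [show b * x * b⁻¹ = MulAut.conj b x from rfl, MulEquiv.orderOf_eq]
    · exact ((coreAt_spec h hb.1 hb1).1 x).2 ⟨hx.2, (((coreAt_spec h ha.1 ha1).1 x).1 hx.1).2⟩
    · exact Cfsg.Agent.S0205.result (Nat.not_even_iff_odd.1 fun he =>
        (coreAt_spec h ha.1 ha1).2.2 (even_iff_two_dvd.1 he))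
  obtain ⟨W, hW, hWle⟩ := Cfsg.Lib.Sft.exists_member hAel hAcard hθ
  set W₀ : Subgroup G := ⨆ a : {a : G // a ∈ A ∧ a ≠ 1}, coreAt a.1 with hW₀
  have hW₀W : W₀ ≤ W := iSup_le fun a => hWle a.1 a.2.1 a.2.2
  have hodd : Odd (Nat.card W₀) := Nat.not_even_iff_odd.1 fun he =>
    hW.2.1 ((even_iff_two_dvd.1 he).trans (Subgroup.card_dvd_of_le hW₀W))
  have hconj : ∀ n ∈ Subgroup.normalizer ((P : Subgroup G) : Set G), ∀ x ∈ W₀, n * x * n⁻¹ ∈ W₀ := by
    intro n hn
    suffices h1 : W₀ ≤ W₀.comap (MulAut.conj n).toMonoidHom from fun x hx => h1 hx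
    refine iSup_le fun a x hx => ?_
    show n * x * n⁻¹ ∈ W₀
    obtain ⟨hxC, hx2⟩ := ((coreAt_spec h a.2.1.1 a.2.2).1 x).1 hx
    have ha' : n * a.1 * n⁻¹ ∈ A ∧ n * a.1 * n⁻¹ ≠ 1 :=
      ⟨⟨(Subgroup.mem_normalizer_iff.1 hn _).1 a.2.1.1, sq_of_isConj (isConj_iff.2 ⟨n, rfl⟩) a.2.1.2⟩,
        fun e => a.2.2 (conj_eq_one_iff.1 e)⟩
    refine le_iSup (fun a : {a : G // a ∈ A ∧ a ≠ 1} => coreAt a.1) ⟨_, ha'⟩
      (((coreAt_spec h ha'.1.1 ha'.2).1 _).2 ⟨?_, ?_⟩)
    · rw [Subgroup.mem_centralizer_singleton_iff] at hxC ⊢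
      calc n * x * n⁻¹ * (n * a.1 * n⁻¹) = n * (x * a.1) * n⁻¹ := by group
        _ = n * (a.1 * x) * n⁻¹ := by rw [hxC]
        _ = _ := by group
    · rwa [show n * x * n⁻¹ = MulAut.conj n x from rfl, MulEquiv.orderOf_eq]
  have c : Cover P W₀ := by
    refine ⟨h, hodd, fun n hn => Subgroup.mem_normalizer_iff.2 fun x => ⟨hconj n hn x, fun hx => ?_⟩,
      fun z hz hz1 => ?_⟩
    · simpa [mul_assoc] using hconj n⁻¹ (inv_mem hn) _ hx
    · obtain ⟨t, ht, ht1, ht2, hle⟩ := exists_involution_mem hz hz1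
      exact hle.trans ((coreAt_spec h ht ht1).2.1.trans (sup_le_sup_right
        (le_iSup (fun a : {a : G // a ∈ A ∧ a ≠ 1} => coreAt a.1) ⟨t, ⟨ht, ht2⟩, ht1⟩) _))
  -- the kernel of the principal block
  have hP1 : Nat.card (P : Subgroup G) ≠ 1 := fun e => hy1 (by
    haveI := (Nat.card_eq_one_iff_unique.1 e).1
    exact congrArg Subtype.val (Subsingleton.elim (⟨y, hy⟩ : (P : Subgroup G)) 1))
  set D : Subgroup G := ⨅ χ : {χ : IrrCharacter G // χ ∈ principalBlock M G},
    kerSubgroup ((χ.1 : IrrCharacter G) : G → ℂ) (isCharacter_of_irr χ.1.2) with hD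
  have hmemD : ∀ g, g ∈ D ↔ ∀ χ ∈ principalBlock M G, ((χ : IrrCharacter G) : G → ℂ) g = (χ : G → ℂ) 1 := by
    intro g
    rw [hD, Subgroup.mem_iInf]
    exact ⟨fun hg χ hχ => hg ⟨χ, hχ⟩, fun hg χ => hg χ.1 χ.2⟩
  have hDn : D.Normal := by
    refine ⟨fun g hg t => (hmemD _).2 fun χ hχ => ?_⟩
    rw [isClassFunction_irr χ g t, (hmemD g).1 hg χ hχ]
  have hW₀bot : W₀ = ⊥ := by
    have hWD : W₀ ≤ D := fun g hg => (hmemD g).2 fun χ hχ => c.apply_eq hM hP1 hχ hg
    refine le_bot_iff.1 (hWD.trans (hO D hDn (Nat.not_even_iff_odd.1 fun he => ?_)).le)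
    obtain ⟨z, hz⟩ := exists_prime_orderOf_dvd_card' (G := D) 2 (even_iff_two_dvd.1 he)
    rw [← Subgroup.orderOf_coe] at hz
    have h0 := block_orthogonality_regular hM (isPBlock_blockOf (principal G)) (g := (1 : G))
      (h := (z : G)) (by simp) (dvd_of_eq hz.symm)
    rw [show (Finset.univ.filter (· ∈ blockOf M ((principal G : IrrCharacter G) : G → ℂ))) =
      Finset.univ.filter (· ∈ principalBlock M G) from rfl] at h0
    rw [Finset.sum_congr rfl fun (χ : IrrCharacter G) hχ => show (χ : G → ℂ) 1 * conj ((χ : G → ℂ) z) =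
        ((deg (χ : G → ℂ) ^ 2 : ℕ) : ℂ) by
      rw [(hmemD _).1 z.2 χ (Finset.mem_filter.1 hχ).2, irr_apply_one_eq_deg, map_natCast]
      push_cast; ring, ← Nat.cast_sum, Nat.cast_eq_zero, Finset.sum_eq_zero_iff] at h0
    have := h0 (principal G) (Finset.mem_filter.2 ⟨Finset.mem_univ _, mem_blockOf_self hM (principal G)⟩)
    have hpos := deg_irr_pos (principal G : IrrCharacter G)
    rw [pow_eq_zero_iff two_ne_zero] at this
    omega
  obtain ⟨t, ht, ht1, ht2, hle⟩ := exists_involution_mem hy hy1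
  refine le_antisymm (hle.trans ((coreAt_spec h ht ht1).2.1.trans (sup_le ?_ le_rfl))) fun z hz =>
    Subgroup.mem_centralizer_singleton_iff.2 (h.comm z hz y hy)
  exact ((le_iSup (fun a : {a : G // a ∈ A ∧ a ≠ 1} => coreAt a.1) ⟨t, ⟨ht, ht2⟩, ht1⟩).trans
    hW₀bot.le).trans bot_le

/-- With self-centralising elements, the principal block is the support of an involution column. -/
theorem mem_principal_iff (hM : IsPModular 2 M) (h : FrobeniusNormalizer P)
    (hC : ∀ y ∈ (P : Subgroup G), y ≠ 1 → Subgroup.centralizer ({y} : Set G) = (P : Subgroup G))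
    {x : G} (hx : x ∈ (P : Subgroup G)) (hx2 : orderOf x = 2) (χ : IrrCharacter G) :
    χ ∈ principalBlock M G ↔ (χ : G → ℂ) x ≠ 0 := by
  have c : Cover P (⊥ : Subgroup G) :=
    ⟨h, by simp, fun n _ => by rw [Subgroup.normalizer_eq_top]; exact Subgroup.mem_top n,
      fun y hy hy1 => (hC y hy hy1).le.trans le_sup_right⟩
  have hx1 : x ≠ 1 := fun e => by simp [e] at hx2
  refine ⟨apply_ne_zero hM h hx, fun hne => ?_⟩
  by_contra hnB
  have hall : ∑ φ : IrrCharacter G, (φ : G → ℂ) x * conj ((φ : G → ℂ) x) =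
      (Nat.card (P : Subgroup G) : ℂ) := by
    rw [second_orthogonality, if_pos (IsConj.refl x), hC x hx hx1]
  have hB := c.sum_principal hx hx2 hM hx hx1
  rw [if_pos (IsConj.refl x)] at hB
  rw [← Finset.sum_filter_add_sum_filter_not Finset.univ (· ∈ principalBlock M G), hB, add_eq_left] at hall
  simp only [Complex.mul_conj, ← Complex.ofReal_sum, Complex.ofReal_eq_zero,
    Finset.sum_eq_zero_iff_of_nonneg fun (φ : IrrCharacter G) _ => Complex.normSq_nonneg _,
    Complex.normSq_eq_zero] at hall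
  exact hne (hall χ (Finset.mem_filter.2 ⟨Finset.mem_univ _, hnB⟩))

/-- At most as many characters as the order of `P`. -/
theorem card_principal_le (hM : IsPModular 2 M) (h : FrobeniusNormalizer P)
    (hC : ∀ y ∈ (P : Subgroup G), y ≠ 1 → Subgroup.centralizer ({y} : Set G) = (P : Subgroup G))
    {x : G} (hx : x ∈ (P : Subgroup G)) (hx2 : orderOf x = 2) :
    Nat.card (principalBlock M G) ≤ Nat.card (P : Subgroup G) := by
  have hx1 : x ≠ 1 := fun e => by simp [e] at hx2
  choose d hd hd' using fun χ : IrrCharacter G => Cfsg.Agent.S0944.result χ x hx2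
  have hall : ∑ φ : IrrCharacter G, d φ * d φ = (Nat.card (P : Subgroup G) : ℤ) := by
    have h1 := second_orthogonality x x
    rw [if_pos (IsConj.refl x), hC x hx hx1,
      Finset.sum_congr rfl fun φ _ => by rw [hd φ, map_intCast, ← Int.cast_mul],
      ← Int.cast_sum, ← Int.cast_natCast (R := ℂ)] at h1
    exact Int.cast_injective h1
  have hle : ((Finset.univ.filter (· ∈ principalBlock M G)).card : ℤ) ≤ Nat.card (P : Subgroup G) := by
    rw [← hall, Finset.card_eq_sum_ones, Nat.cast_sum, Nat.cast_one]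
    refine le_trans (Finset.sum_le_sum fun φ hφ => ?_)
      (Finset.sum_le_sum_of_subset_of_nonneg (Finset.subset_univ _) fun φ _ _ => mul_self_nonneg (d φ))
    have hne : d φ ≠ 0 := fun e =>
      (mem_principal_iff hM h hC hx hx2 φ).1 (Finset.mem_filter.1 hφ).2 (by rw [hd, e, Int.cast_zero])
    exact Int.add_one_le_iff.2 (mul_self_pos.2 hne)
  rw [Nat.card_eq_fintype_card, ← Set.toFinset_card]
  refine le_trans (le_of_eq (congrArg Finset.card ?_)) (by exact_mod_cast hle)
  ext χ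
  simp

end Cfsg.Lib.Blocks.PrimeInertial
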