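import Cfsg.Agent.Blocks.PrimeInertial.Rigid
import Cfsg.Agent.S2202
import Cfsg.Agent.S2300
import Cfsg.Agent.S2302
import Cfsg.Agent.S2323

/-!
# The structure of a core-free group with a freely acting automizer
-/

set_option autoImplicit false
set_option linter.unusedSectionVars false
set_option linter.style.haveILetI false

namespace Cfsg.Lib.Blocks.PrimeInertial

open Cfsg.Lib.Chars Cfsg.Lib.Blocks
open scoped _root_.Classical ComplexConjugate

universe u

section SLTwo

variable {F : Type} [Field F] [Fintype F] [CharP F 2]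

/-- The unipotent element. -/
def unip (b : F) : Matrix.SpecialLinearGroup (Fin 2) F :=
  ⟨!![1, b; 0, 1], by simp [Matrix.det_fin_two]⟩

lemma coe_unip (b : F) : ((unip b : Matrix.SpecialLinearGroup (Fin 2) F) : Matrix (Fin 2) (Fin 2) F) =
    !![1, b; 0, 1] := rfl

lemma unip_mul (a b : F) : unip a * unip b = unip (a + b) := by
  ext i j
  fin_cases i <;> fin_cases j <;> simp [coe_unip, Matrix.SpecialLinearGroup.coe_mul, Matrix.mul_apply, Fin.sum_univ_two, add_comm]

lemma orderOf_unip : orderOf (unip (1 : F)) = 2 := by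
  refine orderOf_eq_prime ?_ fun h => ?_
  · rw [pow_two, unip_mul, CharTwo.add_self_eq_zero]
    ext i j
    fin_cases i <;> fin_cases j <;> simp [coe_unip]
  · have := congrArg (fun s : Matrix.SpecialLinearGroup (Fin 2) F => s 0 1) h
    simp [coe_unip] at this

lemma centralizer_unip {s : Matrix.SpecialLinearGroup (Fin 2) F} (h : s * unip 1 = unip 1 * s) :
    ∃ b : F, s = unip b := by
  have h00 := congrArg (fun t : Matrix.SpecialLinearGroup (Fin 2) F => t 0 0) h
  have h01 := congrArg (fun t : Matrix.SpecialLinearGroup (Fin 2) F => t 0 1) h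
  simp [coe_unip, Matrix.SpecialLinearGroup.coe_mul, Matrix.mul_apply, Fin.sum_univ_two] at h00 h01
  have hd : s.1 0 0 * s.1 1 1 - s.1 0 1 * s.1 1 0 = 1 := by
    rw [← Matrix.det_fin_two]; exact s.2
  have hc : s.1 1 0 = 0 := by linear_combination h00
  have hdd : s.1 1 1 = s.1 0 0 := by linear_combination -h01
  rw [hc, hdd, mul_zero, sub_zero] at hd
  have ha : s.1 0 0 = 1 := by
    have h2 : (s.1 0 0 + 1) * (s.1 0 0 + 1) = 0 := by
      have : (2 : F) = 0 := CharTwo.two_eq_zero
      linear_combination hd + (s.1 0 0 + 1) * this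
    exact CharTwo.add_eq_zero.1 (mul_self_eq_zero.1 h2)
  refine ⟨s.1 0 1, ?_⟩
  ext i j
  fin_cases i <;> fin_cases j <;> simp [coe_unip, ha, hc, hdd]

lemma card_centralizer_unip :
    Nat.card (Subgroup.centralizer ({unip (1 : F)} : Set (Matrix.SpecialLinearGroup (Fin 2) F))) =
      Fintype.card F := by
  rw [← Nat.card_eq_fintype_card]
  refine (Nat.card_congr (Equiv.ofBijective (fun b : F => ⟨unip b, Subgroup.mem_centralizer_singleton_iff.2
    (by rw [unip_mul, unip_mul, add_comm])⟩) ⟨fun a b hab => ?_, fun s => ?_⟩)).symm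
  · have := congrArg (fun t : (Subgroup.centralizer ({unip (1 : F)} : Set (Matrix.SpecialLinearGroup (Fin 2) F))) =>
      t.1 0 1) hab
    simpa [coe_unip] using this
  · obtain ⟨b, hb⟩ := centralizer_unip (Subgroup.mem_centralizer_singleton_iff.1 s.2)
    exact ⟨b, Subtype.ext hb.symm⟩

end SLTwo

variable {G : Type u} [Group G] [Fintype G] [Fact (Nat.Prime 2)] {M : Ideal AlgInt} {P : Sylow 2 G}

/-- The linear group case. -/
theorem linear_case (hM : IsPModular 2 M) (h : FrobeniusNormalizer P) (h8 : 8 ≤ (omegaSet P).card)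
    (hC : ∀ y ∈ (P : Subgroup G), y ≠ 1 → Subgroup.centralizer ({y} : Set G) = (P : Subgroup G))
    {x : G} (hx : x ∈ (P : Subgroup G)) (hx2 : orderOf x = 2)
    {F : Type} [Field F] [Fintype F] [CharP F 2] (f : G ≃* Matrix.SpecialLinearGroup (Fin 2) F)
    (hfx : f x = unip 1) :
    Nat.card (P : Subgroup G) = frobIndex P + 1 ∧ blockRank 2 (principalBlock M G) = frobIndex P := by
  have hx1 : x ≠ 1 := fun e => by simp [e] at hx2
  set q := Fintype.card F with hq
  have hcomm : ∀ y : G, y * x = x * y ↔ y ∈ (P : Subgroup G) := fun y => by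
    rw [← hC x hx hx1, Subgroup.mem_centralizer_singleton_iff]
  have hPq : Nat.card (P : Subgroup G) = q := by
    rw [hq, ← card_centralizer_unip (F := F), ← hC x hx hx1]
    refine Nat.card_congr (f.toEquiv.subtypeEquiv fun y => ?_)
    rw [Subgroup.mem_centralizer_singleton_iff, Subgroup.mem_centralizer_singleton_iff, ← hfx,
      MulEquiv.toEquiv_eq_coe, MulEquiv.coe_toEquiv, ← map_mul, ← map_mul, f.injective.eq_iff]
  have hel : ∀ y : (P : Subgroup G), y * y = 1 := fun y => by
    obtain ⟨b, hb⟩ := centralizer_unip (s := f (y : G))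
      (by rw [← hfx, ← map_mul, ← map_mul, (hcomm y).2 y.2])
    refine Subtype.ext (f.injective ?_)
    rw [Subgroup.coe_mul, Subgroup.coe_one, map_mul, map_one, hb, unip_mul, CharTwo.add_self_eq_zero]
    ext i j
    fin_cases i <;> fin_cases j <;> simp [coe_unip]
  have hq8 : 8 ≤ q := by
    rw [← hPq, Nat.card_eq_fintype_card]
    exact h8.trans (Finset.card_le_univ _)
  have hr : Nat.card (P : Subgroup G) = frobIndex P + 1 := by
    have hP1 : 1 ≤ Nat.card (P : Subgroup G) := Nat.card_pos
    rw [← natCard_isConj_syl h (fun e => hx1 (congrArg Subtype.val e) : (⟨x, hx⟩ : (P : Subgroup G)) ≠ 1)]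
    have hrhs : Nat.card {w : (P : Subgroup G) // IsConj x w} =
        (Finset.univ.filter fun w : (P : Subgroup G) => IsConj x w).card := by
      rw [Nat.card_eq_fintype_card, Fintype.card_subtype]
    rw [hrhs, Nat.card_eq_fintype_card, ← Finset.card_univ,
      show (Finset.univ.filter fun w : (P : Subgroup G) => IsConj x w) = Finset.univ.erase 1 by
      ext w
      simp only [Finset.mem_filter, Finset.mem_univ, true_and, Finset.mem_erase, and_true]
      refine ⟨fun hc e => hx1 (isConj_one_left.1 (by rw [e] at hc; exact hc)), fun hw => ?_⟩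
      have hw2 : orderOf (w : G) = 2 := orderOf_eq_prime (by
        rw [pow_two]; exact congrArg Subtype.val (hel w)) fun e => hw (Subtype.ext e)
      have := (Cfsg.Agent.S2302.result (f x) (f w) (by rw [MulEquiv.orderOf_eq, hx2])
        (by rw [MulEquiv.orderOf_eq, hw2])).1
      simpa using f.symm.toMonoidHom.map_isConj this,
      Finset.card_erase_add_one (Finset.mem_univ _)]
  refine ⟨hr, ?_⟩
  have hk : Nat.card (principalBlock M G) = q := by
    refine le_antisymm (hPq ▸ card_principal_le hM h hC hx hx2) ?_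
    obtain ⟨-, hcnt⟩ := Cfsg.Agent.S2300.result (F := F)
    obtain ⟨h1, -, hp, hm⟩ := hcnt (by omega)
    let T := fun a : ℂ => {φ : IrrCharacter (Matrix.SpecialLinearGroup (Fin 2) F) //
      (φ : Matrix.SpecialLinearGroup (Fin 2) F → ℂ) 1 = a}
    have hval : ∀ (φ : IrrCharacter (Matrix.SpecialLinearGroup (Fin 2) F)),
        ((φ : Matrix.SpecialLinearGroup (Fin 2) F → ℂ) 1 = 1 ∨
          (φ : Matrix.SpecialLinearGroup (Fin 2) F → ℂ) 1 = (q : ℂ) + 1 ∨
          (φ : Matrix.SpecialLinearGroup (Fin 2) F → ℂ) 1 = (q : ℂ) - 1) →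
        (φ : Matrix.SpecialLinearGroup (Fin 2) F → ℂ) (unip 1) ≠ 0 := by
      intro φ hφ
      obtain ⟨hv1, hv2⟩ := Cfsg.Agent.S2323.result (by omega) _ φ.2 (unip (1 : F)) rfl
      rcases hφ with e | e | e
      · obtain ⟨a, ha⟩ := Nat.card_eq_one_iff_exists.1 h1
        have hp1 : ((principal _ : IrrCharacter (Matrix.SpecialLinearGroup (Fin 2) F)) :
          Matrix.SpecialLinearGroup (Fin 2) F → ℂ) 1 = 1 := rfl
        have := congrArg Subtype.val ((ha ⟨φ, e⟩).trans (ha ⟨principal _, hp1⟩).symm)
        simp only at this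
        rw [this]
        exact one_ne_zero
      · rw [hv1 e]; exact one_ne_zero
      · rw [hv2 e]; exact neg_ne_zero.2 one_ne_zero
    let g : T 1 ⊕ T ((q : ℂ) + 1) ⊕ T ((q : ℂ) - 1) → principalBlock M G := fun φ =>
      match φ with
      | .inl a => ⟨⟨_, IsIrrCharacter.comp_mulEquiv a.1.2 f⟩, (mem_principal_iff hM h hC hx hx2 _).2
          (by show (a.1 : Matrix.SpecialLinearGroup (Fin 2) F → ℂ) (f x) ≠ 0
              rw [hfx]; exact hval a.1 (Or.inl a.2))⟩
      | .inr (.inl a) => ⟨⟨_, IsIrrCharacter.comp_mulEquiv a.1.2 f⟩, (mem_principal_iff hM h hC hx hx2 _).2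
          (by show (a.1 : Matrix.SpecialLinearGroup (Fin 2) F → ℂ) (f x) ≠ 0
              rw [hfx]; exact hval a.1 (Or.inr (Or.inl a.2)))⟩
      | .inr (.inr a) => ⟨⟨_, IsIrrCharacter.comp_mulEquiv a.1.2 f⟩, (mem_principal_iff hM h hC hx hx2 _).2
          (by show (a.1 : Matrix.SpecialLinearGroup (Fin 2) F → ℂ) (f x) ≠ 0
              rw [hfx]; exact hval a.1 (Or.inr (Or.inr a.2)))⟩
    have hg : Function.Injective g := by
      intro a b hab
      have hfun := congrArg (fun χ : principalBlock M G => ((χ.1 : IrrCharacter G) : G → ℂ)) hab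
      have hq0 : (q : ℂ) ≠ 0 := by simp [hq]
      have hq2 : (q : ℂ) - 1 ≠ 1 := fun e => by
        have : (q : ℂ) = ((2 : ℕ) : ℂ) := by push_cast; linear_combination e
        have := Nat.cast_injective this
        omega
      have hdeg := congrFun hfun 1
      have hext : ∀ φ ψ : Matrix.SpecialLinearGroup (Fin 2) F → ℂ, (fun y => φ (f y)) = (fun y => ψ (f y)) →
          φ = ψ := fun φ ψ e => funext fun s => by simpa using congrFun e (f.symm s)
      rcases a with a | a | a <;> rcases b with b | b | b <;>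
        simp only [g, map_one, a.2, b.2] at hdeg <;>
        first
        | exact congrArg Sum.inl (Subtype.ext (Subtype.ext (hext _ _ hfun)))
        | exact congrArg (Sum.inr ∘ Sum.inl) (Subtype.ext (Subtype.ext (hext _ _ hfun)))
        | exact congrArg (Sum.inr ∘ Sum.inr) (Subtype.ext (Subtype.ext (hext _ _ hfun)))
        | exact absurd (by linear_combination hdeg : (q : ℂ) = 0) hq0
        | exact absurd (by linear_combination -hdeg : (q : ℂ) = 0) hq0
        | exact absurd hdeg hq2
        | exact absurd hdeg.symm hq2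
        | exact absurd (by linear_combination hdeg) (two_ne_zero (α := ℂ))
        | exact absurd (by linear_combination -hdeg) (two_ne_zero (α := ℂ))
    have hcard := Nat.card_le_card_of_injective g hg
    rw [Nat.card_sum, Nat.card_sum] at hcard
    have he : q % 2 = 0 := by
      obtain ⟨k, hk⟩ := IsPGroup.iff_card.1 P.2
      rw [hPq] at hk
      rcases k with - | k
      · simp at hk; omega
      · rw [hk, pow_succ]; simp
    simp only [T, hq] at h1 hp hm hcard ⊢
    rw [h1, hp, hm] at hcard
    omega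
  have hform := count_formula hM P h.comm ⊥ bot_le bot_le fun y hy hy1 t ht hty =>
    h.frob y hy hy1 ⟨Subgroup.mem_centralizer_singleton_iff.2 hty, ht⟩
  rw [hk, Subgroup.card_bot, mul_one] at hform
  rw [hPq] at hr hform
  have hrpos := frobIndex_pos P
  have : frobIndex P * blockRank 2 (principalBlock M G) = frobIndex P * frobIndex P := by
    rw [hr] at hform
    rw [Nat.mul_add, mul_one] at hform
    omega
  exact Nat.eq_of_mul_eq_mul_left hrpos this

/-- **The structure theorem.** -/
theorem structure_dichotomy (hM : IsPModular 2 M) (h : FrobeniusNormalizer P) (hr : 1 < frobIndex P)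
    (hO : ∀ N : Subgroup G, N.Normal → Odd (Nat.card N) → N = ⊥) :
    ((P : Subgroup G).Normal ∧ Subgroup.centralizer ((P : Subgroup G) : Set G) = (P : Subgroup G)) ∨
      (Nat.card (P : Subgroup G) = frobIndex P + 1 ∧ blockRank 2 (principalBlock M G) = frobIndex P) := by
  letI : CommGroup (P : Subgroup G) := { mul_comm := fun a b => Subtype.ext (h.comm a a.2 b b.2) }
  have hdvd := frobIndex_dvd_involutions h
  have hker : Nat.card (powMonoidHom 2 : (P : Subgroup G) →* (P : Subgroup G)).ker = (omegaSet P).card := by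
    rw [Nat.card_eq_fintype_card]
    exact Fintype.card_of_subtype _ fun a => by
      rw [mem_omegaSet, MonoidHom.mem_ker, powMonoidHom_apply, pow_two]
  obtain ⟨a, ha⟩ := IsPGroup.iff_card.1 (P.2.to_subgroup (powMonoidHom 2 : (P : Subgroup G) →* (P : Subgroup G)).ker)
  rw [hker] at ha
  by_cases h4 : (omegaSet P).card = 4
  · exact rank_two hM h hr hO h4
  -- the centre of the argument
  have hP1 : Nat.card (P : Subgroup G) ≠ 1 := fun e => by
    haveI := (Nat.card_eq_one_iff_unique.1 e).1
    have h1 : frobIndex P = 1 := by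
      rw [frobIndex, Subgroup.relIndex_eq_one]
      intro n _
      refine Subgroup.mem_centralizer_iff.2 fun z hz => ?_
      have hz1 : z = 1 := congrArg Subtype.val (Subsingleton.elim (⟨z, hz⟩ : (P : Subgroup G)) 1)
      subst hz1; simp
    omega
  obtain ⟨x, hx, hx2⟩ : ∃ x ∈ (P : Subgroup G), orderOf x = 2 := by
    obtain ⟨k, hk⟩ := IsPGroup.iff_card.1 P.2
    obtain ⟨x, hx⟩ := exists_prime_orderOf_dvd_card' (G := (P : Subgroup G)) 2
      (hk ▸ dvd_pow_self 2 fun h => hP1 (by rw [hk, h, pow_zero]))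
    exact ⟨x, x.2, by rw [Subgroup.orderOf_coe, hx]⟩
  have hx1 : x ≠ 1 := fun e => by simp [e] at hx2
  have hmem : (⟨x, hx⟩ : (P : Subgroup G)) ∈ omegaSet P := mem_omegaSet.2
    (Subtype.ext (by show x * x = 1; rw [← pow_two, ← hx2, pow_orderOf_eq_one]))
  have h2le : 1 < (omegaSet P).card := Finset.one_lt_card.2
    ⟨_, hmem, 1, by simp [mem_omegaSet], fun e => hx1 (congrArg Subtype.val e)⟩
  have h8 : 8 ≤ (omegaSet P).card := by
    rw [ha] at hdvd h4 h2le ⊢
    rcases a with - | - | - | a
    · simp at h2le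
    · norm_num at hdvd; omega
    · norm_num at h4
    · calc 8 = 2 ^ 3 := by norm_num
        _ ≤ 2 ^ (a + 3) := Nat.pow_le_pow_right (by norm_num) (by omega)
  have hC : ∀ y ∈ (P : Subgroup G), y ≠ 1 → Subgroup.centralizer ({y} : Set G) = (P : Subgroup G) :=
    fun y hy hy1 => centralizer_eq_sylow hM h hO h8 hy hy1
  have heven : Even (Nat.card G) := even_iff_two_dvd.2 (hx2 ▸ orderOf_dvd_natCard x)
  have hab : ∀ t : G, orderOf t = 2 → IsMulCommutative ↥(Subgroup.centralizer ({t} : Set G)) := by
    intro t ht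
    have hp : IsPGroup 2 (Subgroup.zpowers t) := IsPGroup.of_card (n := 1) (by
      rw [Nat.card_zpowers, ht, pow_one])
    obtain ⟨Q, hQ⟩ := hp.exists_le_sylow
    obtain ⟨g, hg⟩ := MulAction.exists_smul_eq G Q P
    have hm : g * t * g⁻¹ ∈ (P : Subgroup G) := by
      rw [← hg, Sylow.smul_def]
      exact ⟨t, hQ (Subgroup.mem_zpowers t), rfl⟩
    have hm1 : g * t * g⁻¹ ≠ 1 := fun e => by rw [conj_eq_one_iff.1 e, orderOf_one] at ht; omega
    have hin : ∀ u : G, u * t = t * u → g * u * g⁻¹ ∈ (P : Subgroup G) := fun u hu => by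
      rw [← hC _ hm hm1, Subgroup.mem_centralizer_singleton_iff]
      calc g * u * g⁻¹ * (g * t * g⁻¹) = g * (u * t) * g⁻¹ := by group
        _ = g * (t * u) * g⁻¹ := by rw [hu]
        _ = _ := by group
    refine ⟨⟨fun a b => Subtype.ext ?_⟩⟩
    have := h.comm _ (hin a (Subgroup.mem_centralizer_singleton_iff.1 a.2)) _
      (hin b (Subgroup.mem_centralizer_singleton_iff.1 b.2))
    have e : (a : G) * (b * g⁻¹) = b * (a * g⁻¹) := by simpa [mul_assoc] using this
    rw [← mul_assoc, ← mul_assoc] at e
    exact mul_right_cancel e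
  rcases Cfsg.Agent.S2202.result heven hab with hc | hn | ⟨F, iF, iF', A, iA, iA', hF2, hA, ⟨e⟩⟩
  · exfalso
    haveI := hc P
    have hle : (omegaSet P).card ≤ 2 := by
      refine le_trans (le_of_eq ?_) (IsCyclic.card_pow_eq_one_le (α := (P : Subgroup G)) (n := 2) (by norm_num))
      congr 1
      ext b
      simp [mem_omegaSet, pow_two]
    omega
  · refine Or.inl ⟨hn P, le_antisymm ((Subgroup.centralizer_le (Set.singleton_subset_iff.2 hx)).trans
      (hC x hx hx1).le) fun z hz => Subgroup.mem_centralizer_iff.2 fun w hw => h.comm w hw z hz⟩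
  · have hA1 : Subsingleton A := by
      have hbot := hO ((MonoidHom.fst (Matrix.SpecialLinearGroup (Fin 2) F) A).comp e.toMonoidHom).ker
        inferInstance (by
          have hc : Nat.card ((MonoidHom.fst (Matrix.SpecialLinearGroup (Fin 2) F) A).comp e.toMonoidHom).ker =
              Nat.card A := Nat.card_congr
            ⟨fun g => (e g.1).2, fun a => ⟨e.symm (1, a), by simp [Subgroup.mem_prod]⟩, fun g => Subtype.ext (e.injective (by
              rw [MulEquiv.apply_symm_apply]
              exact Prod.ext g.2.symm rfl)), fun a => by simp⟩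
          rw [hc]; exact hA)
      refine ⟨fun a b => ?_⟩
      have hmem : ∀ c : A, e.symm (1, c) = 1 := fun c => by
        rw [← Subgroup.mem_bot, ← hbot]
        simp [Subgroup.mem_prod]
      have := (hmem a).trans (hmem b).symm
      simpa using this
    let p : G ≃* Matrix.SpecialLinearGroup (Fin 2) F :=
      MulEquiv.ofBijective ((MonoidHom.fst _ A).comp e.toMonoidHom)
        ⟨fun a b hab => e.injective (Prod.ext hab (Subsingleton.elim _ _)), fun s => ⟨e.symm (s, 1), by simp⟩⟩
    obtain ⟨t, ht⟩ := isConj_iff.1 (Cfsg.Agent.S2302.result (p x) (unip 1)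
      (by rw [MulEquiv.orderOf_eq, hx2]) orderOf_unip).1
    exact Or.inr (linear_case hM h h8 hC hx hx2 (p.trans (MulAut.conj t)) (by simpa using ht))

end Cfsg.Lib.Blocks.PrimeInertial
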